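import Cfsg.Agent.Lib.SL2Presentation.SteinbergN

/-!
Counting: a group with the Steinberg relations of rank `n - 1` over a finite field of order `q`
has at most `q^(n(n-1)/2) ∏_{i=2}^n (q^i - 1)` elements.
-/

set_option autoImplicit false

namespace Cfsg.Agent.SL2Presentation

/-- A subgroup generated by commuting additive one-parameter families is small. -/
theorem closure_small {K : Type*} [Field K] [Fintype K] {G : Type*} [Group G] {ι : Type*} [Fintype ι]
    (f : ι → K → G) (hadd : ∀ i t u, f i (t + u) = f i t * f i u)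
    (hcomm : ∀ i j, i ≠ j → ∀ t u, Commute (f i t) (f j u)) {s : Set G} (hs : ∀ g ∈ s, ∃ i t, g = f i t) :
    Finite (Subgroup.closure s) ∧ Nat.card (Subgroup.closure s) ≤ Fintype.card K ^ Fintype.card ι := by
  classical
  let φ : ∀ _ : ι, Multiplicative K →* G := fun i => MonoidHom.mk' (fun t => f i t.toAdd) fun a b => hadd i _ _
  let Φ : (ι → Multiplicative K) →* G := MonoidHom.noncommPiCoprod φ fun i j hij x y => hcomm i j hij _ _
  have hle : Subgroup.closure s ≤ Φ.range := by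
    rw [Subgroup.closure_le]
    intro g hg
    obtain ⟨i, t, rfl⟩ := hs g hg
    exact ⟨Pi.mulSingle i (Multiplicative.ofAdd t), MonoidHom.noncommPiCoprod_mulSingle φ i _⟩
  haveI : Finite Φ.range := Finite.of_surjective _ Φ.rangeRestrict_surjective
  refine ⟨Finite.of_injective _ (Subgroup.inclusion_injective hle), ?_⟩
  calc Nat.card (Subgroup.closure s) ≤ Nat.card Φ.range := Nat.card_le_card_of_injective _ (Subgroup.inclusion_injective hle)
    _ ≤ Nat.card (ι → Multiplicative K) := Nat.card_le_card_of_surjective _ Φ.rangeRestrict_surjective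
    _ = _ := by simp [Nat.card_eq_fintype_card]

namespace StN

variable {K : Type*} [Field K] {G : Type*} [Group G] {m : ℕ} (T : StN K (m + 2) G)

/-- The first row. -/
def row : Subgroup G := Subgroup.closure {g : G | ∃ i : Fin (m + 1), ∃ t, g = T.x 0 i.succ t}

/-- The smaller Steinberg group. -/
def inner : Subgroup G :=
  Subgroup.closure {g : G | ∃ i j : Fin (m + 1), i ≠ j ∧ ∃ t, g = T.x i.succ j.succ t}

theorem x_mem_inner {i j : Fin (m + 1)} (h : i ≠ j) (t : K) : T.x i.succ j.succ t ∈ T.inner :=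
  Subgroup.subset_closure ⟨i, j, h, t, rfl⟩

open scoped Classical in
/-- The relations of the smaller group. -/
noncomputable def innerStN : StN K (m + 1) T.inner where
  x i j t := if h : i = j then 1 else ⟨T.x i.succ j.succ t, T.x_mem_inner h t⟩
  add i j h t u := by
    rw [dif_neg h, dif_neg h, dif_neg h]
    exact Subtype.ext (T.add _ _ (fun e => h (Fin.succ_inj.1 e)) t u)
  comm i j k l h1 h2 h3 h4 t u := by
    rw [dif_neg h1, dif_neg h2]
    exact Subtype.ext (T.comm _ _ _ _ (fun e => h1 (Fin.succ_inj.1 e)) (fun e => h2 (Fin.succ_inj.1 e))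
      (fun e => h3 (Fin.succ_inj.1 e)) (fun e => h4 (Fin.succ_inj.1 e)) t u)
  chain i j l h1 h2 h3 t u := by
    rw [dif_neg h1, dif_neg h2, dif_neg h3]
    exact Subtype.ext (T.chain _ _ _ (fun e => h1 (Fin.succ_inj.1 e)) (fun e => h2 (Fin.succ_inj.1 e))
      (fun e => h3 (Fin.succ_inj.1 e)) t u)
  rel i j h t u ht := by
    simp only [dif_neg h, dif_neg (Ne.symm h)]
    exact Subtype.ext (T.rel _ _ (fun e => h (Fin.succ_inj.1 e)) t u ht)
  gen := by
    refine eq_top_iff.2 ((Subgroup.closure_closure_coe_preimage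
      (k := {g : G | ∃ i j : Fin (m + 1), i ≠ j ∧ ∃ t, g = T.x i.succ j.succ t})).ge.trans (Subgroup.closure_mono ?_))
    rintro ⟨g, hg⟩ ⟨i, j, hij, t, ht⟩
    exact ⟨i, j, hij, t, by rw [dif_neg hij]; exact Subtype.ext ht⟩

theorem inner_norm_row {g a : G} (hg : g ∈ T.inner) (ha : a ∈ T.row) :
    g * a * g⁻¹ ∈ T.row ∧ g⁻¹ * a * g ∈ T.row := by
  unfold inner at hg
  induction hg using Subgroup.closure_induction generalizing a with
  | mem x hx =>
    obtain ⟨i, j, hij, t, rfl⟩ := hx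
    have hij' : i.succ ≠ j.succ := fun e => hij (Fin.succ_inj.1 e)
    have key : ∀ (r : K) {b : G}, b ∈ T.row → T.x i.succ j.succ r * b * (T.x i.succ j.succ r)⁻¹ ∈ T.row := by
      intro r b hb
      refine conj_mem_of_closure _ ?_ hb
      rintro _ ⟨k, u, rfl⟩
      rcases eq_or_ne k i with rfl | hki
      · rw [T.conj_ki hij' (Fin.succ_ne_zero k).symm (Fin.succ_ne_zero j).symm]
        exact Subgroup.mul_mem _ (Subgroup.subset_closure ⟨j, _, rfl⟩) (Subgroup.subset_closure ⟨k, _, rfl⟩)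
      · rw [T.conj_fix hij' (Fin.succ_ne_zero k).symm (fun e => hki (Fin.succ_inj.1 e).symm) (Fin.succ_ne_zero j)]
        exact Subgroup.subset_closure ⟨k, _, rfl⟩
    refine ⟨key t ha, ?_⟩
    have := key (-t) ha
    rwa [T.x_neg hij', inv_inv] at this
  | one => simp [ha]
  | mul x y _ _ ihx ihy =>
    refine ⟨?_, ?_⟩
    · rw [show x * y * a * (x * y)⁻¹ = x * (y * a * y⁻¹) * x⁻¹ by group]
      exact (ihx (ihy ha).1).1
    · rw [show (x * y)⁻¹ * a * (x * y) = y⁻¹ * (x⁻¹ * a * x) * y by group]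
      exact (ihy (ihx ha).2).2
  | inv x _ ih => exact ⟨by rw [inv_inv]; exact (ih ha).2, by rw [inv_inv]; exact (ih ha).1⟩

theorem stab_decomp {g : G} (hg : g ∈ T.stab) : ∃ a ∈ T.row, ∃ b ∈ T.inner, g = a * b := by
  unfold stab at hg
  induction hg using Subgroup.closure_induction with
  | mem x hx =>
    obtain ⟨p, q, hpq, hq, t, rfl⟩ := hx
    obtain ⟨q', rfl⟩ := Fin.exists_succ_eq.2 hq
    obtain rfl | ⟨p', rfl⟩ := Fin.eq_zero_or_eq_succ p
    · exact ⟨_, Subgroup.subset_closure ⟨q', t, rfl⟩, 1, Subgroup.one_mem _, (mul_one _).symm⟩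
    · exact ⟨1, Subgroup.one_mem _, _, T.x_mem_inner (fun e => hpq (congrArg Fin.succ e)) t, (one_mul _).symm⟩
  | one => exact ⟨1, Subgroup.one_mem _, 1, Subgroup.one_mem _, (mul_one 1).symm⟩
  | mul x y _ _ ihx ihy =>
    obtain ⟨a, ha, b, hb, rfl⟩ := ihx
    obtain ⟨a', ha', b', hb', rfl⟩ := ihy
    exact ⟨a * (b * a' * b⁻¹), Subgroup.mul_mem _ ha (T.inner_norm_row hb ha').1, b * b', Subgroup.mul_mem _ hb hb',
      by group⟩
  | inv x _ ih =>
    obtain ⟨a, ha, b, hb, rfl⟩ := ih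
    exact ⟨b⁻¹ * a⁻¹ * b, (T.inner_norm_row hb (Subgroup.inv_mem _ ha)).2, b⁻¹, Subgroup.inv_mem _ hb, by group⟩

theorem card_row [Fintype K] : Finite T.row ∧ Nat.card T.row ≤ Fintype.card K ^ (m + 1) := by
  have := closure_small (fun (i : Fin (m + 1)) t => T.x 0 i.succ t)
    (fun i => T.add _ _ (Fin.succ_ne_zero i).symm)
    (fun i j _ t u => T.comm _ _ _ _ (Fin.succ_ne_zero i).symm (Fin.succ_ne_zero j).symm (Fin.succ_ne_zero j).symm
      (Fin.succ_ne_zero i) t u)
    (s := {g : G | ∃ i : Fin (m + 1), ∃ t, g = T.x 0 i.succ t}) (fun _ h => h)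
  rwa [Fintype.card_fin] at this

open scoped Classical in
theorem card_col [Fintype K] (A : Set (Fin (m + 1))) :
    Finite (T.col A) ∧ Nat.card (T.col A) ≤ Fintype.card K ^ Fintype.card A := by
  exact closure_small (fun (i : A) t => T.x i.1.succ 0 t) (fun i => T.add _ _ (Fin.succ_ne_zero _))
    (fun i j _ t u => T.comm _ _ _ _ (Fin.succ_ne_zero _) (Fin.succ_ne_zero _) (Fin.succ_ne_zero _)
      (Fin.succ_ne_zero _).symm t u)
    (fun _ ⟨i, hi, t, ht⟩ => ⟨⟨i, hi⟩, t, ht⟩)

theorem row_le : T.row ≤ T.stab := by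
  unfold row
  rw [Subgroup.closure_le]
  rintro _ ⟨i, t, rfl⟩
  exact T.x_mem_stab (Fin.succ_ne_zero i).symm (Fin.succ_ne_zero i) t

theorem inner_le : T.inner ≤ T.stab := by
  unfold inner
  rw [Subgroup.closure_le]
  rintro _ ⟨i, j, hij, t, rfl⟩
  exact T.x_mem_stab (fun e => hij (Fin.succ_inj.1 e)) (Fin.succ_ne_zero j) t

theorem step [Fintype K] (hfin : Finite T.inner) :
    Finite G ∧ Nat.card G ≤ (Fintype.card K ^ (m + 2) - 1) * (Fintype.card K ^ (m + 1) * Nat.card T.inner) := by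
  classical
  obtain ⟨hrf, hrc⟩ := T.card_row
  haveI := hrf
  haveI := hfin
  have hsur : Function.Surjective (fun p : T.row × T.inner => (⟨p.1.1 * p.2.1, by
      exact Subgroup.mul_mem _ (T.row_le p.1.2) (T.inner_le p.2.2)⟩ : T.stab)) := by
    rintro ⟨g, hg⟩
    obtain ⟨a, ha, b, hb, rfl⟩ := T.stab_decomp hg
    exact ⟨(⟨a, ha⟩, ⟨b, hb⟩), rfl⟩
  haveI hsf : Finite T.stab := Finite.of_surjective _ hsur
  have hsc : Nat.card T.stab ≤ Fintype.card K ^ (m + 1) * Nat.card T.inner := by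
    refine (Nat.card_le_card_of_surjective _ hsur).trans ?_
    rw [Nat.card_prod]
    exact Nat.mul_le_mul_right _ hrc
  haveI : ∀ A, Finite (T.col A) := fun A => (T.card_col A).1
  let F : (T.col Set.univ ⊕ Σ k : Fin (m + 1), T.col {i | k < i}) × Kˣ → G ⧸ T.stab := fun p =>
    Sum.elim (fun y => ((y.1 * T.hh (p.2 : K) : G) : G ⧸ T.stab))
      (fun z => ((T.w 0 z.1.succ 1 * (z.2.1 * T.hh (p.2 : K)) : G) : G ⧸ T.stab)) p.1
  have hF : Function.Surjective F := by
    intro c
    induction c using QuotientGroup.induction_on with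
    | _ g =>
      rcases T.good_all g with ⟨y, hy, a, ha, η, hη, e⟩ | ⟨k, y, hy, a, ha, η, hη, e⟩
      · refine ⟨(Sum.inl ⟨y, hy⟩, Units.mk0 a ha), QuotientGroup.eq.2 ?_⟩
        simp only [Units.val_mk0, e, ← mul_assoc, inv_mul_cancel, one_mul]
        simpa [mul_assoc] using hη
      · refine ⟨(Sum.inr ⟨k, ⟨y, hy⟩⟩, Units.mk0 a ha), QuotientGroup.eq.2 ?_⟩
        simp only [Units.val_mk0, e]
        simpa [mul_assoc] using hη
  haveI : Finite (G ⧸ T.stab) := Finite.of_surjective F hF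
  haveI : Finite G := Finite.of_equiv _ (Subgroup.groupEquivQuotientProdSubgroup (s := T.stab)).symm
  refine ⟨inferInstance, ?_⟩
  rw [T.stab.card_eq_card_quotient_mul_card_subgroup]
  refine Nat.mul_le_mul ?_ hsc
  refine (Nat.card_le_card_of_surjective F hF).trans ?_
  rw [Nat.card_prod, Nat.card_sum, Nat.card_sigma, Nat.card_units]
  set q := Fintype.card K with hq
  have h1 : Nat.card (T.col Set.univ) ≤ q ^ (m + 1) := (T.card_col Set.univ).2.trans (by simp [q])
  have h2 : ∑ k : Fin (m + 1), Nat.card (T.col {i | k < i}) ≤ ∑ e ∈ Finset.range (m + 1), q ^ e := by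
    refine (Finset.sum_le_sum fun k _ => (T.card_col {i | k < i}).2).trans (le_of_eq ?_)
    rw [← Finset.sum_range_reflect (fun e => q ^ e), ← Fin.sum_univ_eq_sum_range (fun e => q ^ (m + 1 - 1 - e))]
    refine Finset.sum_congr rfl fun k _ => ?_
    congr 1
    rw [Fintype.card_subtype]
    simp only [Set.mem_setOf_eq]
    rw [show (Finset.univ.filter fun i => k < i) = Finset.Ioi k by ext i; simp, Fin.card_Ioi]
  rw [Nat.card_eq_fintype_card (α := K), ← hq]
  refine (Nat.mul_le_mul_right _ (Nat.add_le_add h1 h2)).trans (le_of_eq ?_)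
  have hq1 : 1 ≤ q := Fintype.card_pos
  have hgeom := geom_sum_mul_add (q - 1) (m + 1)
  rw [Nat.sub_add_cancel hq1] at hgeom
  rw [add_mul, pow_succ q (m + 1)]
  have h3 : q ^ (m + 1) * (q - 1) + q ^ (m + 1) = q ^ (m + 1) * q := by
    rw [← Nat.mul_succ, Nat.succ_eq_add_one, Nat.sub_add_cancel hq1]
  have h4 : 1 ≤ q ^ (m + 1) := Nat.one_le_pow _ _ hq1
  omega

theorem card_bound {K : Type*} [Field K] [Fintype K] : ∀ (m : ℕ) {G : Type*} [Group G], StN K (m + 1) G →
    Finite G ∧ Nat.card G ≤ Fintype.card K ^ ((m + 1) * m / 2) *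
      ∏ i ∈ Finset.Ico 2 (m + 2), (Fintype.card K ^ i - 1) := by
  intro m
  induction m with
  | zero =>
    intro G _ T
    have hsub : Subsingleton G := by
      have h : (⊤ : Subgroup G) = ⊥ := by
        rw [← T.gen, Subgroup.closure_eq_bot_iff]
        rintro g ⟨i, j, hij, -⟩
        exact absurd (Fin.ext (by omega)) hij
      exact ⟨fun a b => (Subgroup.mem_bot.1 (h ▸ Subgroup.mem_top a)).trans (Subgroup.mem_bot.1 (h ▸ Subgroup.mem_top b)).symm⟩
    refine ⟨inferInstance, ?_⟩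
    rw [Nat.card_of_subsingleton (1 : G)]
    simp
  | succ m ih =>
    intro G _ T
    obtain ⟨hf, hc⟩ := ih T.innerStN
    obtain ⟨hfin, hle⟩ := T.step hf
    refine ⟨hfin, hle.trans ((Nat.mul_le_mul_left _ (Nat.mul_le_mul_left _ hc)).trans (le_of_eq ?_))⟩
    rw [Finset.prod_Ico_succ_top (show 2 ≤ m + 2 by omega)]
    have he : (m + 1 + 1) * (m + 1) / 2 = (m + 1) * m / 2 + (m + 1) := by
      rw [show (m + 1 + 1) * (m + 1) = (m + 1) * m + (m + 1) * 2 by ring, Nat.add_mul_div_right _ _ two_pos]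
    rw [he, pow_add]
    ring

end StN

end Cfsg.Agent.SL2Presentation
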