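import Cfsg.Agent.Lib.SL2Presentation.Additive

set_option autoImplicit false

/-! The matrices of `SL₂(q)` used as generators, and primitive elements of finite fields. -/

namespace Cfsg.Agent.SL2Presentation

open Matrix

variable {F : Type*} [Field F]

theorem mul_val (a b : SpecialLinearGroup (Fin 2) F) : (a * b).1 = a.1 * b.1 := rfl

/-- An upper unitriangular element. -/
def uL (x : F) : SpecialLinearGroup (Fin 2) F := ⟨!![1, x; 0, 1], by simp [det_fin_two]⟩

/-- The diagonal elements. -/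
def dL : Fˣ →* SpecialLinearGroup (Fin 2) F where
  toFun c := ⟨!![(c : F), 0; 0, ((c⁻¹ : Fˣ) : F)], by simp [det_fin_two]⟩
  map_one' := Subtype.ext (by ext i j; fin_cases i <;> fin_cases j <;> simp)
  map_mul' c d := Subtype.ext (show !![((c * d : Fˣ) : F), 0; 0, (((c * d)⁻¹ : Fˣ) : F)] =
      !![(c : F), 0; 0, ((c⁻¹ : Fˣ) : F)] * !![(d : F), 0; 0, ((d⁻¹ : Fˣ) : F)] by
    ext i j; fin_cases i <;> fin_cases j <;> simp [Matrix.mul_apply, Fin.sum_univ_two, mul_comm])

/-- The Weyl element. -/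
def tL : SpecialLinearGroup (Fin 2) F := ⟨!![0, 1; -1, 0], by simp [det_fin_two]⟩

theorem dL_coe (c : Fˣ) :
    ((dL c : SpecialLinearGroup (Fin 2) F) : Matrix (Fin 2) (Fin 2) F) = !![(c : F), 0; 0, (c : F)⁻¹] := by
  change !![(c : F), 0; 0, ((c⁻¹ : Fˣ) : F)] = _
  rw [Units.val_inv_eq_inv_val]

theorem uL_add (x y : F) : uL (x + y) = uL x * uL y := Subtype.ext (by
  rw [mul_val]
  ext i j; fin_cases i <;> fin_cases j <;> simp [uL, Matrix.mul_apply, Fin.sum_univ_two, add_comm])

theorem uL_zero : uL (0 : F) = 1 := Subtype.ext (by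
  ext i j; fin_cases i <;> fin_cases j <;> simp [uL])

theorem uL_nsmul (n : ℕ) (x : F) : uL ((n : F) * x) = uL x ^ n := by
  induction n with
  | zero => simp [uL_zero]
  | succ n ih => rw [Nat.cast_succ, add_mul, one_mul, uL_add, ih, pow_succ]

theorem dL_conj (c : Fˣ) (x : F) : dL c * uL x * (dL c)⁻¹ = uL ((c : F) ^ 2 * x) := by
  rw [mul_inv_eq_iff_eq_mul]
  apply Subtype.ext
  rw [mul_val, mul_val, dL_coe]
  ext i j; fin_cases i <;> fin_cases j <;> simp [uL, Matrix.mul_apply, Fin.sum_univ_two]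
  field_simp

theorem tL_conj (c : Fˣ) : tL * dL c * tL⁻¹ = (dL c : SpecialLinearGroup (Fin 2) F)⁻¹ := by
  rw [mul_inv_eq_iff_eq_mul, ← map_inv]
  apply Subtype.ext
  rw [mul_val, mul_val, dL_coe, dL_coe]
  ext i j; fin_cases i <;> fin_cases j <;> simp [tL, Matrix.mul_apply, Fin.sum_univ_two]

theorem tL_sq : (tL * tL : SpecialLinearGroup (Fin 2) F) = dL (-1) := Subtype.ext (by
  rw [mul_val, dL_coe]
  ext i j; fin_cases i <;> fin_cases j <;> simp [tL, Matrix.mul_apply, Fin.sum_univ_two])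

/-- The key identity of the Bruhat decomposition. -/
theorem tL_uL_tL (x : F) (hx : x ≠ 0) :
    tL * uL x * tL = uL (-x⁻¹) * tL * uL (-x) * dL (Units.mk0 (-x) (neg_ne_zero.mpr hx)) := by
  apply Subtype.ext
  simp only [mul_val, dL_coe]
  ext i j; fin_cases i <;> fin_cases j <;>
    simp [tL, uL, Matrix.mul_apply, Fin.sum_univ_two, hx]

theorem eq_cell (g : SpecialLinearGroup (Fin 2) F) (hc : (g : Matrix (Fin 2) (Fin 2) F) 1 0 ≠ 0) :
    g = uL ((g : Matrix (Fin 2) (Fin 2) F) 0 0 / (g : Matrix (Fin 2) (Fin 2) F) 1 0) * tL *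
      uL ((g : Matrix (Fin 2) (Fin 2) F) 1 1 * (g : Matrix (Fin 2) (Fin 2) F) 1 0) *
      dL (Units.mk0 (-(g : Matrix (Fin 2) (Fin 2) F) 1 0) (neg_ne_zero.mpr hc)) := by
  have hd := g.2
  rw [det_fin_two] at hd
  apply Subtype.ext
  simp only [mul_val, dL_coe]
  ext i j; fin_cases i <;> fin_cases j <;>
    simp [tL, uL, Matrix.mul_apply, Fin.sum_univ_two] <;> field_simp
  linear_combination -hd

/-- Generation of `SL₂(F)`. -/
theorem closure_eq_top [Fintype F] (ω : Fˣ) (hω : ∀ c : Fˣ, c ∈ Subgroup.zpowers ω)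
    (H : Subgroup (SpecialLinearGroup (Fin 2) F)) (hu : ∀ x, uL x ∈ H) (hd : dL ω ∈ H) (ht : tL ∈ H) :
    H = ⊤ := by
  rw [eq_top_iff]
  intro g _
  have hdd : ∀ c : Fˣ, dL c ∈ H := fun c => by
    obtain ⟨k, rfl⟩ := hω c
    simp only [map_zpow]
    exact zpow_mem hd k
  have key : ∀ g : SpecialLinearGroup (Fin 2) F, (g : Matrix (Fin 2) (Fin 2) F) 1 0 ≠ 0 → g ∈ H :=
    fun g hc => by
      rw [eq_cell g hc]
      exact mul_mem (mul_mem (mul_mem (hu _) ht) (hu _)) (hdd _)
  by_cases hc : (g : Matrix (Fin 2) (Fin 2) F) 1 0 = 0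
  · have h2 : ((tL * g : SpecialLinearGroup (Fin 2) F) : Matrix (Fin 2) (Fin 2) F) 1 0 ≠ 0 := by
      rw [mul_val]
      simp [tL, Matrix.mul_apply, Fin.sum_univ_two]
      intro h0
      have hd := g.2
      rw [det_fin_two, h0, hc] at hd
      simp at hd
    have := mul_mem (inv_mem ht) (key _ h2)
    rwa [inv_mul_cancel_left] at this
  · exact key g hc

variable {p : ℕ} [Fact p.Prime] [Algebra (ZMod p) F]

/-- The words of the presentation evaluate to the expected unipotents. -/
theorem polyWord_uL (c : Fˣ) (g : ℕ) (P : Polynomial (ZMod p)) :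
    polyWord (dL c) (uL (1 : F)) g P = uL (Polynomial.aeval (((c : F) ^ 2) ^ g) P) := by
  have horb : ∀ i : ℕ, orb (dL c) (uL (1 : F)) (i : ℤ) = uL (((c : F) ^ 2) ^ i) := fun i => by
    rw [orb, zpow_natCast, ← map_pow, dL_conj, mul_one, Units.val_pow_eq_pow_val, ← pow_mul, ← pow_mul,
      mul_comm]
  rw [Polynomial.aeval_eq_sum_range, polyWord]
  induction P.natDegree + 1 with
  | zero => simp [uL_zero]
  | succ n ih =>
    rw [List.range_succ, List.map_append, List.prod_append, ih, Finset.sum_range_succ, uL_add,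
      List.map_cons, List.map_nil, List.prod_cons, List.prod_nil, mul_one, horb, ← uL_nsmul]
    congr 2
    conv_rhs => rw [← ZMod.natCast_zmod_val (P.coeff n)]
    rw [Nat.cast_smul_eq_nsmul, nsmul_eq_mul, pow_mul]

/-- An element fixed by no proper Frobenius power generates the field. -/
theorem aeval_surjective [Fintype F] (z : F)
    (h : ∀ j : ℕ, 1 ≤ j → (p ^ j) ^ 2 ≤ Fintype.card F → z ^ p ^ j ≠ z) :
    Function.Surjective (Polynomial.aeval z : Polynomial (ZMod p) → F) := by
  set K := IntermediateField.adjoin (ZMod p) {z} with hK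
  have : Fintype K := Fintype.ofFinite K
  have hint : IsIntegral (ZMod p) z := IsIntegral.of_finite (ZMod p) z
  have hKcard : Fintype.card K = p ^ Module.finrank (ZMod p) K := by
    rw [Module.card_eq_pow_finrank (K := ZMod p) (V := ↥K), ZMod.card]
  have hFK : Fintype.card F = Fintype.card K ^ Module.finrank K F := Module.card_eq_pow_finrank
  have hd1 : Module.finrank K F = 1 := by
    have hd0 : 0 < Module.finrank K F := Module.finrank_pos
    by_contra hd
    refine h (Module.finrank (ZMod p) K) Module.finrank_pos ?_ ?_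
    · rw [← hKcard, hFK]
      exact Nat.pow_le_pow_right Fintype.card_pos (show 2 ≤ Module.finrank K F by omega)
    · have := FiniteField.pow_card (⟨z, IntermediateField.mem_adjoin_simple_self (ZMod p) z⟩ : K)
      rw [hKcard] at this
      exact congrArg Subtype.val this
  intro y
  have hcard : Fintype.card K = Fintype.card F := by rw [hFK, hd1, pow_one]
  obtain ⟨⟨w, hw⟩, rfl⟩ : ∃ w : K, (w : F) = y :=
    ((Fintype.bijective_iff_injective_and_card _).mpr ⟨Subtype.val_injective, hcard⟩).2 y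
  have hw' : w ∈ (IntermediateField.adjoin (ZMod p) {z}).toSubalgebra := hw
  rw [IntermediateField.adjoin_simple_toSubalgebra_of_isAlgebraic hint.isAlgebraic,
    Algebra.adjoin_singleton_eq_range_aeval] at hw'
  exact hw'

/-- The square of a multiplicative generator generates the field. -/
theorem aeval_sq_surjective [Fintype F] (ω : Fˣ) (hω : orderOf ω = Fintype.card F - 1) :
    Function.Surjective (Polynomial.aeval ((ω : F) ^ 2) : Polynomial (ZMod p) → F) := by
  refine aeval_surjective _ fun j hj hle heq => ?_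
  have h2 : 2 ≤ p ^ j := (Nat.le_self_pow (by omega) p).trans' (Fact.out : p.Prime).two_le
  obtain ⟨r, hr⟩ : ∃ r, p ^ j = r + 1 := ⟨p ^ j - 1, by omega⟩
  have h1 : ω ^ (2 * r) = 1 := by
    apply Units.ext
    rw [Units.val_pow_eq_pow_val, Units.val_one, pow_mul]
    apply mul_left_cancel₀ (pow_ne_zero 2 ω.ne_zero)
    rw [mul_one, ← pow_succ', ← hr]
    exact heq
  have hdvd := orderOf_dvd_of_pow_eq_one h1
  rw [hω] at hdvd
  have hle' := Nat.le_of_dvd (by omega) hdvd
  rw [hr] at hle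
  have h4 : (r + 1) ^ 2 = r * r + 2 * r + 1 := by ring
  have h5 : r ≤ r * r := Nat.le_mul_self r
  have h6 : 1 ≤ r := by omega
  rcases Nat.lt_or_ge r 2 with h7 | h7
  · interval_cases r; omega
  · have := Nat.mul_le_mul_right r h7
    omega

/-- The element `(ω - ω⁻¹)² / 4` generates the field unless `q = 9`. -/
theorem aeval_conic_surjective [Fintype F] (ω : Fˣ) (hω : orderOf ω = Fintype.card F - 1)
    (hp : p ≠ 2) (hq : Fintype.card F ≠ 9) :
    Function.Surjective (Polynomial.aeval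
      ((((ω : F) - (ω : F)⁻¹) / 2) ^ 2) : Polynomial (ZMod p) → F) := by
  have : CharP F p := (Algebra.charP_iff (ZMod p) F p).mp inferInstance
  have h2F : (2 : F) ≠ 0 := Ring.two_ne_zero ((ringChar.eq F p).symm ▸ hp)
  refine aeval_surjective _ fun j hj hle heq => ?_
  set s : F := (((ω : F) - (ω : F)⁻¹) / 2) ^ 2 with hs
  set A : F := (ω : F) ^ 2 with hA
  have hA0 : A ≠ 0 := pow_ne_zero 2 ω.ne_zero
  set B : F := A ^ p ^ j with hB
  have hB0 : B ≠ 0 := pow_ne_zero _ hA0
  have hz : A + A⁻¹ = 4 * s + 2 := by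
    rw [hs, hA]
    field_simp
    ring
  have hnat : ∀ n : ℕ, (n : F) ^ p ^ j = (n : F) := fun n => by
    rw [← map_natCast (algebraMap (ZMod p) F) n, ← map_pow, ZMod.pow_card_pow]
  have hz' : B + B⁻¹ = A + A⁻¹ := by
    have := congrArg (· ^ p ^ j) hz
    simp only [add_pow_char_pow, mul_pow, inv_pow] at this
    rw [heq, show (4 : F) ^ p ^ j = 4 from hnat 4, show (2 : F) ^ p ^ j = 2 from hnat 2] at this
    rw [hz]; exact this
  have hfac : (B - A) * (B * A - 1) = 0 := by
    have := hz'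
    field_simp at this
    linear_combination this
  have hp3 : 3 ≤ p := by
    have := (Fact.out : p.Prime).two_le
    omega
  have hj3 : 3 ≤ p ^ j := (Nat.le_self_pow (by omega) p).trans' hp3
  have hsq : (p ^ j) ^ 2 = p ^ j * p ^ j := sq _
  have h3 : 3 * p ^ j ≤ p ^ j * p ^ j := Nat.mul_le_mul_right _ hj3
  rcases mul_eq_zero.mp hfac with h | h
  · obtain ⟨r, hr⟩ : ∃ r, p ^ j = r + 1 := ⟨p ^ j - 1, by omega⟩
    have h1 : ω ^ (2 * r) = 1 := by
      apply Units.ext
      rw [Units.val_pow_eq_pow_val, Units.val_one, pow_mul]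
      apply mul_left_cancel₀ hA0
      rw [mul_one, hA, ← pow_succ', ← hr]
      linear_combination h
    have hdvd := orderOf_dvd_of_pow_eq_one h1
    rw [hω] at hdvd
    have hle' := Nat.le_of_dvd (by omega) hdvd
    omega
  · have h1 : ω ^ (2 * (p ^ j + 1)) = 1 := by
      apply Units.ext
      rw [Units.val_pow_eq_pow_val, Units.val_one, pow_mul, pow_succ, ← hA, ← hB]
      linear_combination h
    have hdvd := orderOf_dvd_of_pow_eq_one h1
    rw [hω] at hdvd
    have hle' := Nat.le_of_dvd (by omega) hdvd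
    -- only `q = 9` survives
    have hj3' : p ^ j = 3 := by
      by_contra hne
      have h4 : 4 * p ^ j ≤ p ^ j * p ^ j := Nat.mul_le_mul_right _ (by omega)
      omega
    obtain ⟨hp', hj'⟩ : p = 3 ∧ j = 1 := by
      have hd : p ∣ 3 := hj3' ▸ dvd_pow_self p (by omega)
      have hp' := (Nat.prime_dvd_prime_iff_eq Fact.out Nat.prime_three).mp hd
      subst hp'
      exact ⟨rfl, Nat.pow_right_injective (show 2 ≤ 3 by norm_num) (show 3 ^ j = 3 ^ 1 by rw [hj3', pow_one])⟩
    omega

end Cfsg.Agent.SL2Presentation
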