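import Cfsg.Agent.Lib.SL2Presentation.Odd

set_option autoImplicit false

/-! Five relations for `SL₂(q) = PSL₂(q)`, `q` even. -/

namespace Cfsg.Agent.SL2Presentation

open Polynomial Matrix
open scoped IsMulCommutative

variable {F : Type*} [Field F] [Fintype F]

theorem uL_injective : Function.Injective (uL : F → Matrix.SpecialLinearGroup (Fin 2) F) := fun x y h => by
  have := congrArg (fun g : Matrix.SpecialLinearGroup (Fin 2) F => g.1 0 1) h
  simpa [uL] using this

/-- With `t` of order two modulo the centre, `(t u)³ = t²` forces `t² = 1`. -/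
theorem sq_eq_one_and_braid {G : Type*} [Group G] {u h t : G}
    (hgen : Subgroup.closure ({u, h, t} : Set G) = ⊤)
    (hu : u * u = 1) (hth : t * h * t⁻¹ = h⁻¹) (h3 : (t * u) ^ 3 = t * t) :
    t * t = 1 ∧ t * u * t = u * t * u := by
  have hui : u⁻¹ = u := inv_eq_of_mul_eq_one_right hu
  have czu : Commute (t * t) u := by
    have h1 : Commute (t * t) (t * u) := by rw [← h3]; exact Commute.pow_self _ _
    have h2 : Commute (t * t) t⁻¹ := (Commute.mul_left (Commute.refl t) (Commute.refl t)).inv_right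
    have := h2.mul_right h1
    rwa [inv_mul_cancel_left] at this
  have czt : Commute (t * t) t := Commute.mul_left (Commute.refl t) (Commute.refl t)
  have htut : t * u * t = u * t * u := by
    have e : t * u * t = t * t * u⁻¹ * t⁻¹ * u⁻¹ := by
      rw [← h3, pow_three]; group
    rw [e, hui, czu.eq]
    group
  have e1 : (t * u * t) * (t * u * t) = (t * t) * (t * t) := by
    calc (t * u * t) * (t * u * t) = t * u * (t * t) * u * t := by group
      _ = t * (u * (t * t) * u) * t := by group
      _ = t * (t * t * (u * u)) * t := by rw [← czu.eq]; group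
      _ = (t * t) * (t * t) := by rw [hu]; group
  have e2 : (u * t * u) * (u * t * u) = t * t := by
    calc (u * t * u) * (u * t * u) = u * t * (u * u) * t * u := by group
      _ = u * (t * t) * u := by rw [hu]; group
      _ = t * t * (u * u) := by rw [← czu.eq]; group
      _ = t * t := by rw [hu, mul_one]
  exact ⟨mul_eq_left.mp (e1.symm.trans (htut ▸ e2)), htut⟩

section Main

variable [Algebra (ZMod 2) F]

/-- The five relations. -/
noncomputable def evenRels (b m : ℕ) (P : (ZMod 2)[X]) : Finset FG :=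
  {gU * gU, orb gH gU b * (gU * orb gH gU 1)⁻¹, polyWord gH gU 1 P * (gH ^ m)⁻¹,
    gT * gH * gT⁻¹ * gH, (gT * gU) ^ 3 * (gT * gT)⁻¹}

theorem evenRels_card (b m : ℕ) (P : (ZMod 2)[X]) : (evenRels b m P).card ≤ 5 := by
  unfold evenRels
  exact Finset.card_le_five

/-- What the relations give in any group. -/
structure EvenData {G : Type} [Group G] (φ : FG →* G) (b m : ℕ) (P : (ZMod 2)[X]) : Prop where
  gen : Subgroup.closure ({φ gU, φ gH, φ gT} : Set G) = ⊤
  uu : φ gU * φ gU = 1
  tri : orb (φ gH) (φ gU) b = φ gU * orb (φ gH) (φ gU) 1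
  poly : polyWord (φ gH) (φ gU) 1 P = φ gH ^ m
  th : φ gT * φ gH * (φ gT)⁻¹ = (φ gH)⁻¹
  braid : (φ gT * φ gU) ^ 3 = φ gT * φ gT

theorem EvenData.of_rels {G : Type} [Group G] (φ : FG →* G) (hsurj : Function.Surjective φ) (b m : ℕ)
    (P : (ZMod 2)[X]) (h : ∀ r ∈ evenRels b m P, φ r = 1) : EvenData φ b m P := by
  classical
  refine ⟨?_, ?_, ?_, ?_, ?_, ?_⟩
  · rw [eq_top_iff, ← MonoidHom.range_eq_top.mpr hsurj, MonoidHom.range_eq_map,
      ← FreeGroup.closure_range_of, MonoidHom.map_closure]
    refine Subgroup.closure_mono ?_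
    rintro _ ⟨_, ⟨i, rfl⟩, rfl⟩
    fin_cases i <;> simp
  · rw [← map_mul]; exact h _ (by simp [evenRels])
  · have := h (orb gH gU b * (gU * orb gH gU 1)⁻¹) (by simp [evenRels])
    simp only [map_mul, map_inv, map_orb] at this
    exact mul_inv_eq_one.mp this
  · have := h (polyWord gH gU 1 P * (gH ^ m)⁻¹) (by simp [evenRels])
    simp only [map_mul, map_inv, map_pow, map_polyWord] at this
    exact mul_inv_eq_one.mp this
  · have := h (gT * gH * gT⁻¹ * gH) (by simp [evenRels])
    simp only [map_mul, map_inv] at this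
    exact eq_inv_of_mul_eq_one_left this
  · have := h ((gT * gU) ^ 3 * (gT * gT)⁻¹) (by simp [evenRels])
    simp only [map_mul, map_inv, map_pow] at this
    exact mul_inv_eq_one.mp this

/-- The orbit of `u` generates an elementary abelian subgroup invariant under `h`. -/
theorem EvenData.orbit {G : Type} [Group G] {φ : FG →* G} {b m : ℕ} {P : (ZMod 2)[X]}
    (E : EvenData φ b m P) :
    ∃ A : Subgroup G, A = Subgroup.closure (Set.range fun i : ℤ => orb (φ gH) (φ gU) i) ∧
      IsMulCommutative A ∧ φ gU ∈ A ∧ (∀ x ∈ A, x ^ 2 = 1) ∧ (∀ x ∈ A, φ gH * x * (φ gH)⁻¹ ∈ A) := by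
  set h := φ gH
  set u := φ gU
  have hu : u * u = 1 := E.uu
  have hsq : ∀ i : ℤ, orb h u i * orb h u i = 1 := fun i => by
    calc orb h u i * orb h u i = h ^ i * (u * u) * (h ^ i)⁻¹ := by simp only [orb]; group
      _ = 1 := by rw [hu]; group
  have hc : Commute u (orb h u (1 : ℕ)) := by
    rw [Nat.cast_one]
    have h1 : (u * orb h u 1) * (u * orb h u 1) = 1 := by rw [← E.tri]; exact hsq _
    calc u * orb h u 1 = (u * orb h u 1)⁻¹ := eq_inv_of_mul_eq_one_left h1
      _ = (orb h u 1)⁻¹ * u⁻¹ := mul_inv_rev _ _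
      _ = orb h u 1 * u := by
          rw [inv_eq_of_mul_eq_one_right hu, inv_eq_of_mul_eq_one_right (hsq 1)]
  have htri : orb h u b = u * orb h u (1 : ℕ) := by rw [Nat.cast_one]; exact E.tri
  set S : Set G := Set.range fun i : ℤ => orb h u i with hS
  have hcomm : ∀ x ∈ S, ∀ y ∈ S, x * y = y * x := by
    rintro _ ⟨i, rfl⟩ _ ⟨j, rfl⟩
    have := gcd_commute htri hc i j
    rw [Nat.gcd_one_left, Nat.cast_one, mul_one, mul_one] at this
    exact this
  refine ⟨Subgroup.closure S, rfl, isMulCommutative_closure_of hcomm,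
    Subgroup.subset_closure ⟨0, orb_zero h u⟩,
    exponent_closure hcomm (by rintro _ ⟨i, rfl⟩; rw [pow_two]; exact hsq i),
    conj_invariant_closure h ?_⟩
  rintro _ ⟨i, rfl⟩
  refine Subgroup.subset_closure ⟨1 + i, ?_⟩
  simp only
  rw [← conj_orb, zpow_one]

/-- The bound when `h ^ m = 1`. -/
theorem EvenData.bound {G : Type} [Group G] {φ : FG →* G} {b m : ℕ} {lam : F}
    (E : EvenData φ b m (minpoly (ZMod 2) lam)) (hlam : lam ≠ 0) (hm : 0 < m)
    (hsurj : Function.Surjective (aeval lam : (ZMod 2)[X] → F))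
    (horbit : ∀ x : F, x ≠ 0 → ∃ i : ℕ, x = lam ^ i) (hh : φ gH ^ m = 1) :
    Finite G ∧ Nat.card G ≤ Fintype.card F * (Fintype.card F + 1) * m := by
  have : Fact (Nat.Prime 2) := ⟨Nat.prime_two⟩
  obtain ⟨A, -, hA, huA, hexp, hinv⟩ := E.orbit
  obtain ⟨ψ, hadd, hone, hequiv, -⟩ := exists_psi A (φ gH) (φ gU) huA hexp hinv lam hsurj
    {minpoly (ZMod 2) lam} (by simpa [hh] using E.poly) fun P hP => by
      rw [Ideal.mem_span_singleton]; exact minpoly.dvd _ _ hP
  obtain ⟨htt, hbraid⟩ := sq_eq_one_and_braid E.gen E.uu E.th E.braid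
  refine order_bound E.gen hadd hone hlam hequiv hm hh E.th (z := 0) (by rw [pow_zero, htt]) {1}
    (fun x hx => ?_) ?_
  · obtain ⟨i, hi⟩ := horbit x hx
    exact ⟨i, 1, rfl, by rw [mul_one, hi]⟩
  · rintro r rfl
    exact ⟨1, 1, 0, by rw [hone, zpow_zero, mul_one, hbraid]⟩

/-- `SL₂(q)` for `q ≥ 4` even. -/
theorem presentation_even (hq : 4 ≤ Fintype.card F) :
    ∃ rels : Finset FG, rels.card ≤ 5 ∧
      Nonempty (PresentedGroup (↑rels : Set FG) ≃* Matrix.SpecialLinearGroup (Fin 2) F) := by
  classical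
  have : Fact (Nat.Prime 2) := ⟨Nat.prime_two⟩
  have hchar : CharP F 2 := (Algebra.charP_iff (ZMod 2) F 2).mp inferInstance
  obtain ⟨ω, hω⟩ := IsCyclic.exists_generator (α := Fˣ)
  have hωord : orderOf ω = Fintype.card F - 1 := by
    rw [orderOf_eq_card_of_forall_mem_zpowers hω, Nat.card_eq_fintype_card, Fintype.card_units]
  set lam : F := (ω : F) ^ 2 with hlam
  set m := Fintype.card F - 1 with hmdef
  have hsurj := aeval_sq_surjective (p := 2) ω hωord
  have hlam0 : lam ≠ 0 := pow_ne_zero 2 ω.ne_zero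
  have hmodd : Odd m := by
    have h : Fintype.card F % 2 = 0 :=
      FiniteField.even_card_of_char_two (ringChar.eq F 2)
    rw [Nat.odd_iff]; omega
  have horbit : ∀ x : F, x ≠ 0 → ∃ i : ℕ, x = lam ^ i := fun x hx => by
    obtain ⟨y, hy⟩ := FiniteField.isSquare_of_char_two (ringChar.eq F 2) x
    have hy0 : y ≠ 0 := fun h => hx (by rw [hy, h, zero_mul])
    obtain ⟨n, hn⟩ := (mem_powers_iff_mem_zpowers).mpr (hω (Units.mk0 y hy0))
    refine ⟨n, ?_⟩
    have hn' : (ω : F) ^ n = y := by
      have := congrArg Units.val hn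
      simpa using this
    rw [hy, hlam, ← pow_mul, Nat.mul_comm 2 n, pow_mul, hn', pow_two]
  obtain ⟨b, hb⟩ := horbit (1 + lam) (fun h => by
    have h1 : lam = 1 := by
      rw [← CharTwo.neg_eq (1 : F)]; exact eq_neg_of_add_eq_zero_right h
    have h2 : ω ^ 2 = 1 := Units.ext (by rw [Units.val_pow_eq_pow_val, ← hlam, h1, Units.val_one])
    have := Nat.le_of_dvd (by norm_num) (orderOf_dvd_of_pow_eq_one h2)
    omega)
  have hωm : ω ^ m = 1 := by rw [← hωord]; exact pow_orderOf_eq_one ω
  set P := minpoly (ZMod 2) lam with hPdef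
  set rels := evenRels b m P with hrels
  refine ⟨rels, evenRels_card _ _ _, ?_⟩
  have hmodel : ∀ r ∈ rels, model ω r = 1 := by
    intro r hr
    simp only [hrels, evenRels, Finset.mem_insert, Finset.mem_singleton] at hr
    rcases hr with rfl | rfl | rfl | rfl | rfl
    · rw [map_mul, model_U, ← pow_two, uL_pow_char (p := 2)]
    · have h1 := orb_model (F := F) ω 1
      rw [Nat.cast_one, pow_one] at h1
      simp only [map_mul, map_inv, map_orb, model_H, model_U, orb_model, h1, ← hlam]
      rw [← uL_add, hb, mul_inv_cancel]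
    · simp only [map_mul, map_inv, map_pow, map_polyWord, model_H, model_U, polyWord_uL, pow_one, ← hlam]
      rw [hPdef, minpoly.aeval, uL_zero, ← map_pow, hωm, map_one, inv_one, mul_one]
    · simp only [map_mul, map_inv, model_H, model_T, tL_conj, inv_mul_cancel]
    · simp only [map_mul, map_inv, map_pow, model_U, model_T]
      rw [mul_inv_eq_one]
      apply Subtype.ext
      simp only [pow_three, mul_val]
      have h2 : (2 : F) = 0 := CharP.cast_eq_zero F 2
      ext i j
      fin_cases i <;> fin_cases j <;>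
        simp [tL, uL, Matrix.mul_apply, Fin.sum_univ_two, CharTwo.neg_eq, CharTwo.add_self_eq_zero]
  set G := PresentedGroup (↑rels : Set FG) with hG
  set φ : FG →* G := PresentedGroup.mk _ with hφ
  have E : EvenData φ b m P :=
    EvenData.of_rels φ (PresentedGroup.mk_surjective _) b m P fun r hr => PresentedGroup.one_of_mem hr
  obtain ⟨A, hAdef, hA, huA, hexp, hinv⟩ := E.orbit
  set w := φ gH ^ m with hw
  have hwA : w ∈ A := by
    rw [hw, ← E.poly]
    exact polyWord_mem _ _ 1 P fun i => by rw [hAdef]; exact Subgroup.subset_closure ⟨_, rfl⟩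
  have hwcentral : ∀ g : G, g * w = w * g := by
    have hwu : φ gU * w = w * φ gU := congrArg Subtype.val (hA.is_comm.comm ⟨_, huA⟩ ⟨w, hwA⟩)
    have hwt : φ gT * w = w * φ gT := by
      have h1 := conj_t_zpow E.th (m : ℤ)
      rw [zpow_natCast, _root_.zpow_neg, zpow_natCast, ← hw] at h1
      have h2 : w⁻¹ = w := inv_eq_of_mul_eq_one_right (by rw [← pow_two]; exact hexp w hwA)
      rw [h2] at h1
      exact mul_inv_eq_iff_eq_mul.mp h1
    intro g
    have hg : g ∈ Subgroup.closure ({φ gU, φ gH, φ gT} : Set G) := E.gen ▸ Subgroup.mem_top g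
    induction hg using Subgroup.closure_induction with
    | mem x hx =>
      simp only [Set.mem_insert_iff, Set.mem_singleton_iff] at hx
      rcases hx with rfl | rfl | rfl
      · exact hwu
      · exact (Commute.self_pow (φ gH) m).eq
      · exact hwt
    | one => simp
    | mul x y _ _ hx hy => rw [mul_assoc, hy, ← mul_assoc, hx, mul_assoc]
    | inv x _ hx => exact ((show Commute x w from hx).inv_left).eq
  let π : G →* Matrix.SpecialLinearGroup (Fin 2) F :=
    PresentedGroup.toGroup (f := ![uL (1 : F), dL ω, tL]) (rels := (↑rels : Set FG)) hmodel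
  have hπφ : ∀ x, π (φ x) = model ω x := fun x => rfl
  have hπsurj : Function.Surjective π := by
    intro x
    have hr : (model ω).range = ⊤ := by
      refine closure_eq_top ω hω _ (fun x => ?_) ⟨gH, model_H ω⟩ ⟨gT, model_T ω⟩
      obtain ⟨Q, rfl⟩ := hsurj x
      exact ⟨polyWord gH gU 1 Q, by rw [map_polyWord, model_H, model_U, polyWord_uL, pow_one]⟩
    obtain ⟨y, hy⟩ : x ∈ (model ω).range := by rw [hr]; exact Subgroup.mem_top x
    exact ⟨φ y, by rw [hπφ, hy]⟩
  have hcardL : Nat.card (Matrix.SpecialLinearGroup (Fin 2) F) =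
      Fintype.card F * (Fintype.card F + 1) * m := by
    rw [Cfsg.Agent.GL.card_SL2, mul_assoc, show Fintype.card F ^ 2 - 1 = Fintype.card F ^ 2 - 1 ^ 2 by norm_num,
      Nat.sq_sub_sq]
  -- the quotient by `⟨w⟩`
  set W := Subgroup.zpowers w with hW
  have hWn : W.Normal := ⟨fun x hx g => by
    obtain ⟨k, rfl⟩ := hx
    have : Commute g (w ^ k) := (show Commute g w from hwcentral g).zpow_right k
    rw [this.eq, mul_inv_cancel_right]
    exact ⟨k, rfl⟩⟩
  have hWker : W ≤ π.ker := by
    rw [hW, Subgroup.zpowers_le, MonoidHom.mem_ker, hw, map_pow, hπφ, model_H, ← map_pow, hωm, map_one]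
  let π1 : G ⧸ W →* Matrix.SpecialLinearGroup (Fin 2) F := QuotientGroup.lift W π hWker
  have hπ1 : Function.Surjective π1 := fun x => by
    obtain ⟨y, rfl⟩ := hπsurj x
    exact ⟨QuotientGroup.mk y, rfl⟩
  have E1 : EvenData ((QuotientGroup.mk' W).comp φ) b m P :=
    EvenData.of_rels _ ((QuotientGroup.mk'_surjective W).comp (PresentedGroup.mk_surjective _)) b m P
      fun r hr => by rw [MonoidHom.comp_apply, show φ r = 1 from PresentedGroup.one_of_mem hr, map_one]
  obtain ⟨hfin1, hle1⟩ := E1.bound hlam0 (by omega) hsurj horbit (by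
    rw [MonoidHom.comp_apply, ← map_pow, ← hw]
    exact (QuotientGroup.eq_one_iff w).mpr (Subgroup.mem_zpowers w))
  have hbij1 : Function.Bijective π1 :=
    (Nat.bijective_iff_surjective_and_card _).mpr ⟨hπ1, le_antisymm (hle1.trans_eq hcardL.symm)
      (Nat.card_le_card_of_surjective _ hπ1)⟩
  have hker : π.ker = W := le_antisymm (fun x hx => (QuotientGroup.eq_one_iff x).mp
    (hbij1.1 (by rw [map_one]; exact hx))) hWker
  -- transfer to `A`
  have hker_le : π.ker ≤ A := by rw [hker, hW, Subgroup.zpowers_le]; exact hwA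
  have himage : A.map π = Subgroup.closure (Set.range fun i : ℤ => orb (dL ω) (uL (1 : F)) i) := by
    rw [hAdef, MonoidHom.map_closure, ← Set.range_comp]
    congr 1
    ext z
    simp [map_orb, hπφ]
  have hidx : ¬ 2 ∣ A.index := by
    have h1 : (A.map π).index = A.index := by
      rw [Subgroup.index_map, sup_eq_left.mpr hker_le, MonoidHom.range_eq_top.mpr hπsurj,
        Subgroup.index_top, mul_one]
    have hset : ((A.map π : Subgroup _) : Set (Matrix.SpecialLinearGroup (Fin 2) F)) = Set.range uL := by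
      refine Set.Subset.antisymm ?_ ?_
      · intro z hz
        rw [himage, SetLike.mem_coe] at hz
        induction hz using Subgroup.closure_induction with
        | mem x hx =>
          obtain ⟨i, rfl⟩ := hx
          exact ⟨((ω ^ i : Fˣ) : F) ^ 2, by
            simp only [orb, ← map_zpow, dL_conj, mul_one]⟩
        | one => exact ⟨0, uL_zero⟩
        | mul x y _ _ hx hy =>
          obtain ⟨a, rfl⟩ := hx
          obtain ⟨c, rfl⟩ := hy
          exact ⟨a + c, uL_add a c⟩
        | inv x _ hx =>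
          obtain ⟨a, rfl⟩ := hx
          exact ⟨-a, eq_inv_of_mul_eq_one_left (by rw [← uL_add, neg_add_cancel, uL_zero])⟩
      · rintro _ ⟨x, rfl⟩
        obtain ⟨Q, rfl⟩ := hsurj x
        rw [himage]
        rw [← pow_one ((ω : F) ^ 2), ← polyWord_uL]
        exact polyWord_mem _ _ 1 Q fun i => Subgroup.subset_closure ⟨_, rfl⟩
    have h2 : Nat.card (A.map π) = Fintype.card F := by
      rw [← Nat.card_eq_fintype_card, ← Nat.card_range_of_injective (uL_injective (F := F)), ← hset]
      rfl
    have h3 := (A.map π).card_mul_index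
    rw [h2, h1, hcardL, mul_assoc] at h3
    rw [Nat.eq_of_mul_eq_mul_left (by omega) h3]
    intro hd
    rcases (Nat.Prime.dvd_mul Nat.prime_two).mp hd with h | h <;> rw [Nat.odd_iff] at hmodd <;> omega
  have hAfin : A.FiniteIndex := ⟨fun h0 => hidx (h0 ▸ dvd_zero 2)⟩
  have hw1 : w = 1 := by
    have := hA
    let χ : G →* A := MonoidHom.transfer (MonoidHom.id A)
    have hχ : χ = 1 := by
      have hu1 : χ (φ gU) = 1 ∧ χ (φ gT) = 1 := by
        have hu2 : χ (φ gU) * χ (φ gU) = 1 := by rw [← map_mul, E.uu, map_one]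
        have ht2 : χ (φ gT) * χ (φ gT) = 1 := by
          rw [← map_mul, (sq_eq_one_and_braid E.gen E.uu E.th E.braid).1, map_one]
        have hu : χ (φ gU) = 1 := by
          have := congrArg χ E.tri
          rw [map_mul] at this
          simp only [orb, map_mul, map_inv, mul_inv_cancel_comm] at this
          rwa [hu2] at this
        refine ⟨hu, ?_⟩
        have := congrArg χ E.braid
        rw [map_pow, map_mul, map_mul, hu, mul_one, pow_three, ht2, mul_one] at this
        exact this
      have hh1 : χ (φ gH) = 1 := by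
        have h1 := congrArg χ E.th
        rw [map_mul, map_mul, map_inv, map_inv, hu1.2, one_mul, inv_one, mul_one] at h1
        have h2 : χ (φ gH) ^ 2 = 1 := by rw [pow_two]; nth_rewrite 2 [h1]; exact mul_inv_cancel _
        have h3 := congrArg χ E.poly
        rw [map_polyWord, map_pow, hu1.1] at h3
        have h4 : polyWord (χ (φ gH)) (1 : A) 1 P = 1 := by
          simp [polyWord, orb]
        rw [h4] at h3
        have h5 := orderOf_dvd_of_pow_eq_one h2
        have h6 := orderOf_dvd_of_pow_eq_one h3.symm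
        have h7 : orderOf (χ (φ gH)) ∣ Nat.gcd 2 m := Nat.dvd_gcd h5 h6
        rw [Nat.Coprime.gcd_eq_one (Nat.coprime_two_left.mpr hmodd), Nat.dvd_one, orderOf_eq_one_iff] at h7
        exact h7
      refine MonoidHom.eq_of_eqOn_dense E.gen ?_
      intro x hx
      simp only [Set.mem_insert_iff, Set.mem_singleton_iff] at hx
      rcases hx with rfl | rfl | rfl
      · exact hu1.1
      · exact hh1
      · exact hu1.2
    have htr := MonoidHom.transfer_eq_pow (ϕ := MonoidHom.id A) w fun k g₀ _ => by
      have hc : Commute g₀ (w ^ k) := (show Commute g₀ w from hwcentral g₀).pow_right k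
      rw [mul_assoc, ← hc.eq, inv_mul_cancel_left]
    have h1 : χ w = 1 := by rw [hχ]; rfl
    have h2 : w ^ A.index = 1 := congrArg Subtype.val (htr.symm.trans h1)
    have h3 : orderOf w ∣ Nat.gcd 2 A.index :=
      Nat.dvd_gcd (orderOf_dvd_of_pow_eq_one (hexp w hwA)) (orderOf_dvd_of_pow_eq_one h2)
    rw [Nat.Coprime.gcd_eq_one ((Nat.Prime.coprime_iff_not_dvd Nat.prime_two).mpr hidx), Nat.dvd_one,
      orderOf_eq_one_iff] at h3
    exact h3
  have hkerbot : π.ker = ⊥ := by rw [hker, hW, hw1, Subgroup.zpowers_one_eq_bot]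
  exact ⟨MulEquiv.ofBijective π ⟨(MonoidHom.ker_eq_bot_iff π).mp hkerbot, hπsurj⟩⟩

/-- `SL₂(2)`. -/
theorem presentation_two (hq : Fintype.card F = 2) :
    ∃ rels : Finset FG, rels.card ≤ 5 ∧
      Nonempty (PresentedGroup (↑rels : Set FG) ≃* Matrix.SpecialLinearGroup (Fin 2) F) := by
  classical
  have : Fact (Nat.Prime 2) := ⟨Nat.prime_two⟩
  have hchar : CharP F 2 := (Algebra.charP_iff (ZMod 2) F 2).mp inferInstance
  have hall : ∀ x : F, x = 0 ∨ x = 1 := fun x => by
    by_contra h
    rw [not_or] at h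
    have := Finset.card_le_univ ({0, 1, x} : Finset F)
    rw [Finset.card_insert_of_notMem (by simp [Ne.symm h.1]), Finset.card_insert_of_notMem (by simp [Ne.symm h.2]),
      Finset.card_singleton, hq] at this
    omega
  let rels : Finset FG := {gU * gU, gH, gT * gT, gT * gU * gT * (gU * gT * gU)⁻¹}
  refine ⟨rels, Finset.card_le_four.trans (by norm_num), ?_⟩
  have hmodel : ∀ r ∈ rels, model (1 : Fˣ) r = 1 := by
    intro r hr
    simp only [rels, Finset.mem_insert, Finset.mem_singleton] at hr
    rcases hr with rfl | rfl | rfl | rfl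
    · rw [map_mul, model_U, ← pow_two, uL_pow_char (p := 2)]
    · rw [model_H, map_one]
    · rw [map_mul, model_T, tL_sq, show (-1 : Fˣ) = 1 from Units.ext (by simp [CharTwo.neg_eq]), map_one]
    · simp only [map_mul, map_inv, model_U, model_T]
      rw [mul_inv_eq_one]
      apply Subtype.ext
      simp only [mul_val]
      ext i j
      fin_cases i <;> fin_cases j <;>
        simp [tL, uL, Matrix.mul_apply, Fin.sum_univ_two, CharTwo.neg_eq, CharTwo.add_self_eq_zero]
  set G := PresentedGroup (↑rels : Set FG)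
  set φ : FG →* G := PresentedGroup.mk _ with hφd
  have hφ : ∀ r ∈ rels, φ r = 1 := fun r hr => PresentedGroup.one_of_mem hr
  have huu : φ gU * φ gU = 1 := by rw [← map_mul]; exact hφ _ (by simp [rels])
  have hh : φ gH = 1 := hφ _ (by simp [rels])
  have htt : φ gT * φ gT = 1 := by rw [← map_mul]; exact hφ _ (by simp [rels])
  have hbraid : φ gT * φ gU * φ gT = φ gU * φ gT * φ gU := by
    have := hφ (gT * gU * gT * (gU * gT * gU)⁻¹) (by simp [rels])
    simp only [map_mul, map_inv] at this
    exact mul_inv_eq_one.mp this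
  let ψ : F → G := fun x => if x = 0 then 1 else φ gU
  have hadd : ∀ x y, ψ (x + y) = ψ x * ψ y := by
    intro x y
    rcases hall x with rfl | rfl <;> rcases hall y with rfl | rfl <;>
      simp [ψ, huu, CharTwo.add_self_eq_zero]
  have hgen : Subgroup.closure ({φ gU, φ gH, φ gT} : Set G) = ⊤ := by
    rw [eq_top_iff, ← PresentedGroup.closure_range_of (↑rels : Set FG)]
    refine Subgroup.closure_mono ?_
    rintro _ ⟨i, rfl⟩
    fin_cases i <;> simp [φ, PresentedGroup.of]
  obtain ⟨hfin, hle⟩ := order_bound hgen hadd (by simp [ψ]) (lam := (1 : F)) one_ne_zero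
    (by intro x; simp [hh]) (k := 1) one_pos (by simp [hh]) (by simp [hh]) (z := 0)
    (by rw [pow_zero, htt]) {1}
    (fun x hx => ⟨0, 1, rfl, by rw [(hall x).resolve_left hx]; simp⟩)
    (by rintro r rfl; exact ⟨1, 1, 0, by simp [ψ, hbraid]⟩)
  let π : G →* Matrix.SpecialLinearGroup (Fin 2) F :=
    PresentedGroup.toGroup (f := ![uL (1 : F), dL (1 : Fˣ), tL]) (rels := (↑rels : Set FG)) hmodel
  have hsur : Function.Surjective π := by
    intro x
    have hr : (model (1 : Fˣ)).range = ⊤ := by
      refine closure_eq_top (1 : Fˣ) (fun c => ?_) _ (fun x => ?_) ⟨gH, model_H _⟩ ⟨gT, model_T _⟩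
      · rw [show c = 1 from Units.ext ((hall c).resolve_left c.ne_zero)]; exact one_mem _
      · rcases hall x with rfl | rfl
        · rw [uL_zero]; exact one_mem _
        · exact ⟨gU, model_U _⟩
    obtain ⟨y, hy⟩ : x ∈ (model (1 : Fˣ)).range := by rw [hr]; exact Subgroup.mem_top x
    exact ⟨φ y, hy⟩
  refine ⟨MulEquiv.ofBijective π ((Nat.bijective_iff_surjective_and_card _).mpr ⟨hsur,
    le_antisymm (hle.trans_eq ?_) (Nat.card_le_card_of_surjective _ hsur)⟩)⟩
  rw [Cfsg.Agent.GL.card_SL2, hq]; norm_num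

end Main

/-- All three claims for a finite field of characteristic two. -/
theorem presentation_char_two [CharP F 2] :
    ∃ rels : Finset FG, rels.card ≤ 5 ∧
      Nonempty (PresentedGroup (↑rels : Set FG) ≃* Matrix.SpecialLinearGroup (Fin 2) F) := by
  letI := ZMod.algebra F 2
  rcases Nat.lt_or_ge (Fintype.card F) 4 with h | h
  · refine presentation_two ?_
    have := Fintype.one_lt_card (α := F)
    have h2 : Fintype.card F % 2 = 0 := FiniteField.even_card_of_char_two (ringChar.eq F 2)
    omega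
  · exact presentation_even h

/-- In characteristic two `SL₂ = PSL₂`. -/
theorem nonempty_equiv_psl [CharP F 2] :
    Nonempty (Matrix.SpecialLinearGroup (Fin 2) F ≃* Matrix.ProjectiveSpecialLinearGroup (Fin 2) F) := by
  refine ⟨MulEquiv.ofBijective
    (QuotientGroup.mk' (Subgroup.center (Matrix.SpecialLinearGroup (Fin 2) F))) ?_⟩
  refine (Nat.bijective_iff_surjective_and_card _).mpr ⟨QuotientGroup.mk'_surjective _, ?_⟩
  have h := Cfsg.Agent.GL.gcd_mul_card_PSL (F := F) 2 (by norm_num)
  have h2 : Nat.gcd 2 (Fintype.card F - 1) = 1 := by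
    apply Nat.Coprime.gcd_eq_one
    rw [Nat.coprime_two_left, Nat.odd_iff]
    have h1 : Fintype.card F % 2 = 0 := FiniteField.even_card_of_char_two (ringChar.eq F 2)
    have := Fintype.one_lt_card (α := F)
    omega
  rw [h2, one_mul] at h
  exact h.symm

end Cfsg.Agent.SL2Presentation
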