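import Cfsg.Agent.Lib.SL2Presentation.Order

/-!
The rank one Steinberg relations: over a finite field `h(u) = w(u) w(-1)` is multiplicative
(Steinberg's argument with two non-squares adding up to one), so the group is no larger than `SL₂`.
-/

set_option autoImplicit false

namespace Cfsg.Agent.SL2Presentation

/-- A group with the rank one Steinberg relations. -/
structure Stein (F : Type*) [Field F] (G : Type*) [Group G] where
  x : F → G
  y : F → G
  x_add : ∀ a b, x (a + b) = x a * x b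
  y_add : ∀ a b, y (a + b) = y a * y b
  rel : ∀ t u : F, t ≠ 0 → (x t * y (-t⁻¹) * x t) * x u * (x t * y (-t⁻¹) * x t)⁻¹ = y (-(t⁻¹ ^ 2 * u))
  gen : Subgroup.closure (Set.range x ∪ Set.range y) = ⊤

namespace Stein

variable {F : Type*} [Field F] {G : Type*} [Group G] (S : Stein F G)

/-- The Weyl element. -/
def w (t : F) : G := S.x t * S.y (-t⁻¹) * S.x t

/-- The torus element. -/
def h (u : F) : G := S.w u * S.w (-1)

theorem x_neg (a : F) : S.x (-a) = (S.x a)⁻¹ := by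
  apply eq_inv_of_mul_eq_one_left
  rw [← S.x_add, neg_add_cancel, psi_zero S.x_add]

theorem y_neg (a : F) : S.y (-a) = (S.y a)⁻¹ := by
  apply eq_inv_of_mul_eq_one_left
  rw [← S.y_add, neg_add_cancel, psi_zero S.y_add]

theorem w_neg (t : F) : S.w (-t) = (S.w t)⁻¹ := by
  simp only [w, inv_neg, neg_neg, S.x_neg, S.y_neg, mul_inv_rev, inv_inv, mul_assoc]

theorem w_x {t : F} (ht : t ≠ 0) (u : F) : S.w t * S.x u * (S.w t)⁻¹ = S.y (-(t⁻¹ ^ 2 * u)) :=
  S.rel t u ht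

theorem w_y {t : F} (ht : t ≠ 0) (v : F) : S.w t * S.y v * (S.w t)⁻¹ = S.x (-(t ^ 2 * v)) := by
  have h := S.w_x (neg_ne_zero.2 ht) (-(t ^ 2 * v))
  rw [S.w_neg, inv_inv, show -((-t)⁻¹ ^ 2 * -(t ^ 2 * v)) = v by field_simp] at h
  rw [← h]
  group

theorem w_eq {t : F} (ht : t ≠ 0) : S.w t = S.y (-t⁻¹) * S.x t * S.y (-t⁻¹) := by
  have h1 : S.w t * S.x t * (S.w t)⁻¹ = S.y (-t⁻¹) := by
    rw [S.w_x ht]; congr 1; field_simp
  have h2 : S.w t * S.y (-t⁻¹) * (S.w t)⁻¹ = S.x t := by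
    rw [S.w_y ht]; congr 1; field_simp
  calc S.w t = S.w t * (S.x t * S.y (-t⁻¹) * S.x t) * (S.w t)⁻¹ := by
        rw [← w]; group
    _ = (S.w t * S.x t * (S.w t)⁻¹) * (S.w t * S.y (-t⁻¹) * (S.w t)⁻¹) * (S.w t * S.x t * (S.w t)⁻¹) := by group
    _ = _ := by rw [h1, h2]

theorem w_conj {u v : F} (hu : u ≠ 0) (hv : v ≠ 0) : S.w u * S.w v * (S.w u)⁻¹ = S.w (u ^ 2 / v) := by
  rw [S.w_eq (t := u ^ 2 / v) (div_ne_zero (pow_ne_zero 2 hu) hv)]
  calc S.w u * S.w v * (S.w u)⁻¹ = (S.w u * S.x v * (S.w u)⁻¹) * (S.w u * S.y (-v⁻¹) * (S.w u)⁻¹) *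
        (S.w u * S.x v * (S.w u)⁻¹) := by rw [show S.w v = S.x v * S.y (-v⁻¹) * S.x v from rfl]; group
    _ = _ := by
      rw [S.w_x hu, S.w_y hu, show -(u ^ 2 / v)⁻¹ = -(u⁻¹ ^ 2 * v) by field_simp,
        show u ^ 2 / v = -(u ^ 2 * -v⁻¹) by field_simp]

theorem h_x {u : F} (hu : u ≠ 0) (s : F) : S.h u * S.x s * (S.h u)⁻¹ = S.x (u ^ 2 * s) := by
  have e : S.h u * S.x s * (S.h u)⁻¹ = S.w u * (S.w (-1) * S.x s * (S.w (-1))⁻¹) * (S.w u)⁻¹ := by
    rw [h]; group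
  rw [e, S.w_x (by simp), S.w_y hu]
  congr 1
  field_simp

theorem h_y {u : F} (hu : u ≠ 0) (v : F) : S.h u * S.y v * (S.h u)⁻¹ = S.y (u⁻¹ ^ 2 * v) := by
  have e : S.h u * S.y v * (S.h u)⁻¹ = S.w u * (S.w (-1) * S.y v * (S.w (-1))⁻¹) * (S.w u)⁻¹ := by
    rw [h]; group
  rw [e, S.w_y (by simp), S.w_x hu]
  congr 1
  ring

theorem h_w {u v : F} (hu : u ≠ 0) (hv : v ≠ 0) : S.h u * S.w v * (S.h u)⁻¹ = S.w (u ^ 2 * v) := by
  calc S.h u * S.w v * (S.h u)⁻¹ = (S.h u * S.x v * (S.h u)⁻¹) * (S.h u * S.y (-v⁻¹) * (S.h u)⁻¹) *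
        (S.h u * S.x v * (S.h u)⁻¹) := by rw [show S.w v = S.x v * S.y (-v⁻¹) * S.x v from rfl]; group
    _ = _ := by
      rw [S.h_x hu, S.h_y hu, w, show u⁻¹ ^ 2 * -v⁻¹ = -(u ^ 2 * v)⁻¹ by field_simp]

theorem h_one : S.h 1 = 1 := by rw [h, S.w_neg, mul_inv_cancel]

theorem h_conj {u v : F} (hu : u ≠ 0) (hv : v ≠ 0) :
    S.h u * S.h v * (S.h u)⁻¹ = S.h (u ^ 2 * v) * (S.h (u ^ 2))⁻¹ := by
  have e : S.h u * S.h v * (S.h u)⁻¹ = (S.h u * S.w v * (S.h u)⁻¹) * (S.h u * S.w (-1) * (S.h u)⁻¹) := by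
    rw [show S.h v = S.w v * S.w (-1) from rfl]; group
  rw [e, S.h_w hu hv, S.h_w hu (by simp), mul_neg_one, S.w_neg]
  rw [show ∀ a : F, S.h a = S.w a * S.w (-1) from fun a => rfl, show ∀ a : F, S.h a = S.w a * S.w (-1) from fun a => rfl]
  group

theorem T_h {u : F} (hu : u ≠ 0) : S.w 1 * S.h u * (S.w 1)⁻¹ = S.h u⁻¹ := by
  have e : S.w 1 * S.h u * (S.w 1)⁻¹ = (S.w 1 * S.w u * (S.w 1)⁻¹) * (S.w 1 * S.w (-1) * (S.w 1)⁻¹) := by
    rw [h]; group
  rw [e, S.w_conj one_ne_zero hu, S.w_conj one_ne_zero (by simp), h]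
  congr 2 <;> simp

/-- `c(u, v)` is central. -/
theorem defect_central {u v : F} (hu : u ≠ 0) (hv : v ≠ 0) :
    S.h u * S.h v * (S.h (u * v))⁻¹ ∈ Subgroup.center G := by
  have huv : u * v ≠ 0 := mul_ne_zero hu hv
  set c := S.h u * S.h v * (S.h (u * v))⁻¹ with hc
  have hx : ∀ s, c * S.x s * c⁻¹ = S.x s := fun s => by
    have h0 : (S.h (u * v))⁻¹ * S.x s * S.h (u * v) = S.x ((u * v)⁻¹ ^ 2 * s) := by
      have := S.h_x huv ((u * v)⁻¹ ^ 2 * s)
      rw [show (u * v) ^ 2 * ((u * v)⁻¹ ^ 2 * s) = s by field_simp] at this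
      rw [← this]; group
    have e : c * S.x s * c⁻¹ =
        S.h u * (S.h v * ((S.h (u * v))⁻¹ * S.x s * S.h (u * v)) * (S.h v)⁻¹) * (S.h u)⁻¹ := by
      rw [hc]; group
    rw [e, h0, S.h_x hv, S.h_x hu]
    congr 1
    field_simp
  have hy : ∀ s, c * S.y s * c⁻¹ = S.y s := fun s => by
    have h0 : (S.h (u * v))⁻¹ * S.y s * S.h (u * v) = S.y ((u * v) ^ 2 * s) := by
      have := S.h_y huv ((u * v) ^ 2 * s)
      rw [show (u * v)⁻¹ ^ 2 * ((u * v) ^ 2 * s) = s by field_simp] at this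
      rw [← this]; group
    have e : c * S.y s * c⁻¹ =
        S.h u * (S.h v * ((S.h (u * v))⁻¹ * S.y s * S.h (u * v)) * (S.h v)⁻¹) * (S.h u)⁻¹ := by
      rw [hc]; group
    rw [e, h0, S.h_y hv, S.h_y hu]
    congr 1
    field_simp
  rw [Subgroup.mem_center_iff]
  intro g
  have hg : g ∈ Subgroup.centralizer ({c} : Set G) := by
    have hle : Subgroup.closure (Set.range S.x ∪ Set.range S.y) ≤ Subgroup.centralizer ({c} : Set G) := by
      rw [Subgroup.closure_le]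
      rintro _ (⟨s, rfl⟩ | ⟨s, rfl⟩) <;> rw [SetLike.mem_coe, Subgroup.mem_centralizer_singleton_iff]
      · exact (mul_inv_eq_iff_eq_mul.1 (hx s)).symm
      · exact (mul_inv_eq_iff_eq_mul.1 (hy s)).symm
    exact hle (S.gen ▸ Subgroup.mem_top g)
  exact Subgroup.mem_centralizer_singleton_iff.1 hg

/-- Steinberg's identity. -/
theorem h_mul_one_sub {t s : F} (ht : t ≠ 0) (hs : s ≠ 0) (h1 : t + s = 1) :
    S.h (t * s) = S.h s * S.h t := by
  have hts : t * s ≠ 0 := mul_ne_zero ht hs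
  have hxt : ∀ a : F, a ≠ 0 → S.x a = S.y a⁻¹ * S.w a * S.y a⁻¹ := fun a ha => by
    rw [S.w_eq ha, S.y_neg]; group
  have hyw : ∀ a v : F, a ≠ 0 → S.y v * S.w a = S.w a * S.x (-(a ^ 2 * v)) := fun a v ha => by
    have := S.w_x ha (-(a ^ 2 * v))
    rw [show -(a⁻¹ ^ 2 * -(a ^ 2 * v)) = v by field_simp] at this
    rw [← this]; group
  have hwy : ∀ a v : F, a ≠ 0 → S.w a * S.y v = S.x (-(a ^ 2 * v)) * S.w a := fun a v ha => by
    rw [← S.w_y ha]; group
  have key : S.w 1 = S.w t * S.w (-(t * s)) * S.w s := by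
    calc S.w 1 = S.y (-1) * (S.x t * S.x s) * S.y (-1) := by
          rw [S.w_eq one_ne_zero, ← S.x_add, h1, inv_one]
      _ = (S.y (-1) * S.y t⁻¹) * S.w t * (S.y t⁻¹ * S.y s⁻¹) * S.w s * (S.y s⁻¹ * S.y (-1)) := by
          rw [hxt t ht, hxt s hs]; group
      _ = (S.y (s / t) * S.w t) * S.y (t * s)⁻¹ * (S.w s * S.y (t / s)) := by
          rw [← S.y_add, ← S.y_add, ← S.y_add,
            show -1 + t⁻¹ = s / t by field_simp; linear_combination -h1,
            show t⁻¹ + s⁻¹ = (t * s)⁻¹ by field_simp; linear_combination h1,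
            show s⁻¹ + -1 = t / s by field_simp; linear_combination -h1]
          group
      _ = S.w t * (S.x (-(t * s)) * S.y (-(-(t * s))⁻¹) * S.x (-(t * s))) * S.w s := by
          rw [hyw t _ ht, hwy s _ hs, show -(t ^ 2 * (s / t)) = -(t * s) by field_simp,
            show -(s ^ 2 * (t / s)) = -(t * s) by field_simp, inv_neg, neg_neg]
          group
      _ = _ := rfl
  rw [S.w_neg] at key
  have hw : ∀ a : F, S.w a = S.h a * S.w 1 := fun a => by rw [h, S.w_neg]; group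
  rw [hw t, hw (t * s), hw s] at key
  have h3 : S.h t * (S.h (t * s))⁻¹ * S.h s = 1 := by
    have e : S.h t * (S.h (t * s))⁻¹ * S.h s = (S.h t * S.w 1 * (S.h (t * s) * S.w 1)⁻¹ * (S.h s * S.w 1)) * (S.w 1)⁻¹ := by
      group
    rw [e, ← key, mul_inv_cancel]
  rw [mul_assoc, mul_eq_one_iff_eq_inv, mul_inv_rev, inv_inv] at h3
  rw [h3, mul_inv_cancel_left]

theorem h_comm [Finite F] {u v : F} (hu : u ≠ 0) (hv : v ≠ 0) : Commute (S.h u) (S.h v) := by
  obtain ⟨ω, hω⟩ := IsCyclic.exists_generator (α := Fˣ)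
  have hmem : ∀ k : ℕ, ∀ g : G, Commute g (S.h (ω : F)) → Commute g (S.h (((ω ^ k : Fˣ) : F))) := by
    intro k g hg
    induction k with
    | zero => rw [pow_zero, Units.val_one, S.h_one]; exact Commute.one_right g
    | succ k ih =>
      rw [pow_succ, Units.val_mul]
      have hc := S.defect_central (u := ((ω ^ k : Fˣ) : F)) (v := (ω : F)) (Units.ne_zero _) ω.ne_zero
      set c := S.h ((ω ^ k : Fˣ) : F) * S.h (ω : F) * (S.h (((ω ^ k : Fˣ) : F) * (ω : F)))⁻¹ with hcd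
      rw [show S.h (((ω ^ k : Fˣ) : F) * (ω : F)) = c⁻¹ * (S.h ((ω ^ k : Fˣ) : F) * S.h (ω : F)) by rw [hcd]; group]
      exact (show Commute g c⁻¹ from Subgroup.mem_center_iff.1 ((Subgroup.center G).inv_mem hc) g).mul_right
        (ih.mul_right hg)
  obtain ⟨a, ha⟩ := mem_powers_iff_mem_zpowers.2 (hω (Units.mk0 u hu))
  obtain ⟨b, hb⟩ := mem_powers_iff_mem_zpowers.2 (hω (Units.mk0 v hv))
  rw [← Units.val_mk0 hu, ← Units.val_mk0 hv, ← ha, ← hb]
  exact hmem b _ (hmem a _ (Commute.refl _)).symm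

theorem h_mul_sq [Finite F] {u v : F} (hu : u ≠ 0) (hv : v ≠ 0) : S.h (v * u ^ 2) = S.h v * S.h (u ^ 2) := by
  have := S.h_conj hu hv
  rw [(S.h_comm hu hv).eq, mul_inv_cancel_right, mul_comm (u ^ 2) v] at this
  exact eq_mul_inv_iff_mul_eq.1 this |>.symm

theorem h_mul [Finite F] {u v : F} (hu : u ≠ 0) (hv : v ≠ 0) : S.h (u * v) = S.h u * S.h v := by
  by_cases hv2 : IsSquare v
  · obtain ⟨r, rfl⟩ := hv2
    rw [← sq]
    exact S.h_mul_sq (left_ne_zero_of_mul hv) hu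
  by_cases hu2 : IsSquare u
  · obtain ⟨r, rfl⟩ := hu2
    rw [← sq, mul_comm, S.h_mul_sq (left_ne_zero_of_mul hu) hv, (S.h_comm hv (pow_ne_zero 2 (left_ne_zero_of_mul hu))).eq]
  classical
  haveI := Fintype.ofFinite F
  have hF : ringChar F ≠ 2 := fun h => hv2 (FiniteField.isSquare_of_char_two h v)
  obtain ⟨a, ha, ha'⟩ : ∃ a : F, ¬ IsSquare a ∧ ¬ IsSquare (1 - a) := by
    by_contra hcon
    simp only [not_exists, not_and, not_not] at hcon
    set N := Finset.univ.filter (fun a : F => ¬ IsSquare a)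
    set Q := Finset.univ.filter (fun a : F => a ≠ 0 ∧ a ≠ 1 ∧ IsSquare a)
    have h1 : N.card ≤ Q.card := by
      refine Finset.card_le_card_of_injOn (fun a => 1 - a) (fun a ha => ?_) (fun a _ b _ hab => by simpa using hab)
      have ha := (Finset.mem_filter.1 ha).2
      refine Finset.mem_filter.2 ⟨Finset.mem_univ _, ?_, ?_, hcon a ha⟩
      · exact sub_ne_zero.2 fun h => ha (h ▸ IsSquare.one)
      · intro h; exact ha ((sub_eq_self.1 h) ▸ IsSquare.zero)
    have h2 : (insert 1 Q).card ≤ N.card := by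
      refine Finset.card_le_card_of_injOn (fun a => v * a) (fun a ha => ?_)
        (fun a _ b _ hab => mul_left_cancel₀ hv hab)
      refine Finset.mem_filter.2 ⟨Finset.mem_univ _, fun hsq => hv2 ?_⟩
      have hsa : IsSquare a ∧ a ≠ 0 := by
        rcases Finset.mem_insert.1 ha with rfl | ha
        · exact ⟨IsSquare.one, one_ne_zero⟩
        · exact ⟨(Finset.mem_filter.1 ha).2.2.2, (Finset.mem_filter.1 ha).2.1⟩
      have := hsq.div hsa.1
      rwa [mul_div_cancel_right₀ _ hsa.2] at this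
    rw [Finset.card_insert_of_notMem (by simp [Q])] at h2
    omega
  have ha0 : a ≠ 0 := fun h => ha (h ▸ IsSquare.zero)
  have hs0 : 1 - a ≠ 0 := fun h => ha' (h ▸ IsSquare.zero)
  have hns : ∀ b : F, ¬ IsSquare b → ∃ r, r ≠ 0 ∧ b = a * r ^ 2 := by
    intro b hb
    have hb0 : b ≠ 0 := fun h => hb (h ▸ IsSquare.zero)
    obtain ⟨r, hr⟩ : IsSquare (b / a) := by
      have hχ : quadraticChar F (b / a) = 1 := by
        have h1 := quadraticChar_neg_one_iff_not_isSquare.2 hb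
        have h2 := quadraticChar_neg_one_iff_not_isSquare.2 ha
        have h3 : quadraticChar F (b / a) * quadraticChar F a = quadraticChar F b := by
          rw [← map_mul, div_mul_cancel₀ b ha0]
        rw [h1, h2] at h3
        omega
      exact (quadraticChar_one_iff_isSquare (div_ne_zero hb0 ha0)).1 hχ
    exact ⟨r, fun h => div_ne_zero hb0 ha0 (by rw [hr, h, zero_mul]),
      by rw [sq, ← hr, mul_div_cancel₀ b ha0]⟩
  have haa : S.h (a * a) = S.h a * S.h a := by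
    obtain ⟨r, hr0, hr⟩ := hns _ ha'
    have h1 := S.h_mul_one_sub ha0 hs0 (by ring)
    rw [hr, show a * (a * r ^ 2) = a * a * r ^ 2 by ring, S.h_mul_sq hr0 (mul_ne_zero ha0 ha0), S.h_mul_sq hr0 ha0,
      mul_assoc, (S.h_comm (pow_ne_zero 2 hr0) ha0).eq, ← mul_assoc] at h1
    exact mul_right_cancel h1
  obtain ⟨r, hr0, rfl⟩ := hns u hu2
  obtain ⟨r', hr0', rfl⟩ := hns v hv2
  rw [show a * r ^ 2 * (a * r' ^ 2) = a * a * r ^ 2 * r' ^ 2 by ring,
    S.h_mul_sq hr0' (mul_ne_zero (mul_ne_zero ha0 ha0) (pow_ne_zero 2 hr0)), S.h_mul_sq hr0 (mul_ne_zero ha0 ha0), haa,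
    S.h_mul_sq hr0 ha0, S.h_mul_sq hr0' ha0, mul_assoc (S.h a) (S.h a) _, ← mul_assoc (S.h a * S.h (r ^ 2)),
    mul_assoc (S.h a) (S.h (r ^ 2)) (S.h a), (S.h_comm (pow_ne_zero 2 hr0) ha0).eq, ← mul_assoc (S.h a) (S.h a)]

include S in
/-- The group is no larger than `SL₂`. -/
theorem card_le [Fintype F] :
    Finite G ∧ Nat.card G ≤ Fintype.card F * (Fintype.card F + 1) * (Fintype.card F - 1) := by
  classical
  obtain ⟨ω, hω⟩ := IsCyclic.exists_generator (α := Fˣ)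
  have hq := Fintype.one_lt_card (α := F)
  have hpow : ∀ k : ℕ, S.h (((ω ^ k : Fˣ) : F)) = S.h (ω : F) ^ k := by
    intro k
    induction k with
    | zero => rw [pow_zero, pow_zero, Units.val_one, S.h_one]
    | succ k ih => rw [pow_succ, pow_succ, Units.val_mul, S.h_mul (Units.ne_zero _) ω.ne_zero, ih]
  have hall : ∀ u : F, u ≠ 0 → ∃ k : ℕ, u = ((ω ^ k : Fˣ) : F) := fun u hu => by
    obtain ⟨k, hk⟩ := mem_powers_iff_mem_zpowers.2 (hω (Units.mk0 u hu))
    exact ⟨k, (congrArg Units.val hk).symm⟩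
  obtain ⟨z, hz⟩ := hall (-1) (by simp)
  set K := Subgroup.closure ({S.x 1, S.h (ω : F), S.w 1} : Set G)
  have hx1 : S.x 1 ∈ K := Subgroup.subset_closure (by simp)
  have hh : S.h (ω : F) ∈ K := Subgroup.subset_closure (by simp)
  have hT : S.w 1 ∈ K := Subgroup.subset_closure (by simp)
  have hgen : K = ⊤ := by
    have hxs : ∀ r : F, S.x (r ^ 2) ∈ K := by
      intro r
      by_cases hr : r = 0
      · simp [hr, psi_zero S.x_add, K.one_mem]
      obtain ⟨k, hk⟩ := hall r hr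
      have hr' : S.h r ∈ K := by rw [hk, hpow]; exact K.pow_mem hh k
      rw [← mul_one (r ^ 2), ← S.h_x hr]
      exact K.mul_mem (K.mul_mem hr' hx1) (K.inv_mem hr')
    have hx : ∀ u : F, S.x u ∈ K := by
      intro u
      by_cases h2 : (2 : F) = 0
      · have hc : ringChar F = 2 := by
          haveI : Fact (ringChar F).Prime := ⟨CharP.char_is_prime F (ringChar F)⟩
          have hd := (ringChar.spec F 2).1 (by exact_mod_cast h2)
          exact (Nat.prime_dvd_prime_iff_eq Fact.out Nat.prime_two).1 hd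
        obtain ⟨r, rfl⟩ := FiniteField.isSquare_of_char_two hc u
        rw [← sq]
        exact hxs r
      · rw [show u = ((u + 1) / 2) ^ 2 + -(((u - 1) / 2) ^ 2) by field_simp; ring, S.x_add, S.x_neg]
        exact K.mul_mem (hxs _) (K.inv_mem (hxs _))
    rw [eq_top_iff, ← S.gen, Subgroup.closure_le]
    rintro _ (⟨u, rfl⟩ | ⟨u, rfl⟩)
    · exact hx u
    · have := S.w_x one_ne_zero (-u)
      rw [inv_one, one_pow, one_mul, neg_neg] at this
      rw [← this]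
      exact K.mul_mem (K.mul_mem hT (hx _)) (K.inv_mem hT)
  have hh' : S.h (ω : F) ^ (Fintype.card F - 1) = 1 := by
    rw [← hpow, show ω ^ (Fintype.card F - 1) = 1 by rw [← Fintype.card_units]; exact pow_card_eq_one,
      Units.val_one, S.h_one]
  have hTT : ∃ z : ℕ, S.w 1 * S.w 1 = S.h (ω : F) ^ z := by
    refine ⟨z * (Fintype.card F - 2), ?_⟩
    have e1 : S.w 1 * S.w 1 = (S.h (-1))⁻¹ := by rw [h, S.w_neg, mul_inv_rev, inv_inv]
    rw [e1, hz, hpow, pow_mul]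
    refine inv_eq_of_mul_eq_one_right ?_
    rw [← pow_succ', show Fintype.card F - 2 + 1 = Fintype.card F - 1 by omega, ← pow_mul, mul_comm, pow_mul,
      hh', one_pow]
  obtain ⟨z', hz'⟩ := hTT
  refine order_bound (u := S.x 1) (h := S.h (ω : F)) (t := S.w 1) hgen (ψ := S.x) S.x_add rfl
    (lam := (ω : F) ^ 2) (pow_ne_zero 2 ω.ne_zero) (fun s => S.h_x ω.ne_zero s) (k := Fintype.card F - 1) (by omega)
    hh' ?_ hz' {1, ((ω⁻¹ : Fˣ) : F)} ?_ ?_
  · rw [S.T_h ω.ne_zero]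
    refine (inv_eq_of_mul_eq_one_right ?_).symm
    rw [← S.h_mul ω.ne_zero (inv_ne_zero ω.ne_zero), mul_inv_cancel₀ ω.ne_zero, S.h_one]
  · intro u hu
    obtain ⟨k, hk⟩ := hall u hu
    rcases Nat.even_or_odd k with ⟨j, rfl⟩ | ⟨j, rfl⟩
    · refine ⟨j, 1, by simp, ?_⟩
      rw [hk, Units.val_pow_eq_pow_val, mul_one, ← pow_mul, two_mul]
    · refine ⟨j + 1, _, Or.inr rfl, ?_⟩
      rw [hk, ← pow_mul, Units.val_pow_eq_pow_val, Units.val_inv_eq_inv_val]
      field_simp [ω.ne_zero]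
      ring
  · intro r hr
    have key : ∀ a : F, a ≠ 0 → ∀ i : ℤ, S.h a = S.h (ω : F) ^ i →
        ∃ p b : F, ∃ j : ℤ, S.w 1 * S.x a⁻¹ * S.w 1 = S.x p * S.w 1 * S.x b * S.h (ω : F) ^ j := by
      intro a ha i hi
      have hwa : S.w a = S.h a * S.w 1 := by rw [h, S.w_neg]; group
      have h1 : S.y (-a⁻¹) = S.w 1 * S.x a⁻¹ * (S.w 1)⁻¹ := by
        rw [S.w_x one_ne_zero, inv_one, one_pow, one_mul]
      have h2 : S.w 1 * S.x a⁻¹ = S.x (-a) * S.w a * S.x (-a) * S.w 1 := by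
        rw [show S.w a = S.x a * S.y (-a⁻¹) * S.x a from rfl, h1, S.x_neg]; group
      have h3 : S.w a * S.x (-a) * (S.w a)⁻¹ = S.y a⁻¹ := by
        rw [S.w_x ha]; congr 1; field_simp
      have hTi : S.h (ω : F) ^ i * S.w 1 = S.w 1 * S.h (ω : F) ^ (-i) := by
        have hth : S.w 1 * S.h (ω : F) * (S.w 1)⁻¹ = (S.h (ω : F))⁻¹ := by
          rw [S.T_h ω.ne_zero]
          refine (inv_eq_of_mul_eq_one_right ?_).symm
          rw [← S.h_mul ω.ne_zero (inv_ne_zero ω.ne_zero), mul_inv_cancel₀ ω.ne_zero, S.h_one]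
        have := conj_t_zpow hth (-i)
        rw [neg_neg] at this
        rw [← this]; group
      have hsc : ∀ j : ℤ, ∀ s : F, ∃ m : F, S.h (ω : F) ^ j * S.x s = S.x m * S.h (ω : F) ^ j ∧ m = ((ω : F) ^ 2) ^ j * s := by
        intro j
        induction j using Int.induction_on with
        | zero => intro s; exact ⟨s, by simp, by simp⟩
        | succ n ih =>
          intro s
          obtain ⟨m, hm, hm'⟩ := ih ((ω : F) ^ 2 * s)
          refine ⟨m, ?_, by rw [hm', ← mul_assoc, ← zpow_add_one₀ (pow_ne_zero 2 ω.ne_zero)]⟩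
          calc S.h (ω : F) ^ ((n : ℤ) + 1) * S.x s
              = S.h (ω : F) ^ (n : ℤ) * (S.h (ω : F) * S.x s * (S.h (ω : F))⁻¹) * S.h (ω : F) := by group
            _ = _ := by rw [S.h_x ω.ne_zero, hm]; group
        | pred n ih =>
          intro s
          obtain ⟨m, hm, hm'⟩ := ih (((ω : F) ^ 2)⁻¹ * s)
          refine ⟨m, ?_, by rw [hm', ← mul_assoc, ← zpow_sub_one₀ (pow_ne_zero 2 ω.ne_zero)]⟩
          have e : S.x s = S.h (ω : F) * S.x (((ω : F) ^ 2)⁻¹ * s) * (S.h (ω : F))⁻¹ := by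
            rw [S.h_x ω.ne_zero, mul_inv_cancel_left₀ (pow_ne_zero 2 ω.ne_zero)]
          calc S.h (ω : F) ^ (-(n : ℤ) - 1) * S.x s
              = (S.h (ω : F) ^ (-(n : ℤ)) * S.x (((ω : F) ^ 2)⁻¹ * s)) * (S.h (ω : F))⁻¹ := by rw [e]; group
            _ = _ := by rw [hm]; group
      -- push the torus part to the right
      obtain ⟨b, hb, -⟩ := hsc (-i) (-a)
      refine ⟨-a, b, -i + (z' : ℤ), ?_⟩
      have hfin : S.w 1 * S.x a⁻¹ * S.w 1 = S.x (-a) * S.w 1 * (S.h (ω : F) ^ (-i) * S.x (-a)) * (S.w 1 * S.w 1) := by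
        rw [h2, hwa, hi, hTi]; group
      rw [hfin, hb, hz', ← zpow_natCast, zpow_add]
      group
    simp only [Set.mem_insert_iff, Set.mem_singleton_iff] at hr
    rcases hr with rfl | rfl
    · obtain ⟨p, b, j, hh1⟩ := key 1 one_ne_zero 0 (by rw [S.h_one, zpow_zero])
      exact ⟨p, b, j, by rwa [inv_one] at hh1⟩
    · obtain ⟨p, b, j, hh1⟩ := key (ω : F) ω.ne_zero 1 (zpow_one _).symm
      exact ⟨p, b, j, by rwa [Units.val_inv_eq_inv_val]⟩

end Stein

end Cfsg.Agent.SL2Presentation
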