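import Cfsg.Agent.Lib.SL2Presentation.Lattice

set_option autoImplicit false

/-! From relations inside an orbit of commuting elements to an additive copy of a finite field. -/

namespace Cfsg.Agent.SL2Presentation

open Polynomial
open scoped IsMulCommutative

variable {G : Type*} [Group G] {p : ℕ}

/-- The element `∏ i (h^(g i) u h^(-g i))^(P_i)`. -/
def polyWord (h u : G) (g : ℕ) (P : (ZMod p)[X]) : G :=
  ((List.range (P.natDegree + 1)).map fun i : ℕ => orb h u (g * i : ℕ) ^ (P.coeff i).val).prod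

theorem map_orb {G' : Type*} [Group G'] (φ : G →* G') (h u : G) (i : ℤ) :
    φ (orb h u i) = orb (φ h) (φ u) i := by
  simp [orb]

theorem map_polyWord {G' : Type*} [Group G'] (φ : G →* G') (h u : G) (g : ℕ) (P : (ZMod p)[X]) :
    φ (polyWord h u g P) = polyWord (φ h) (φ u) g P := by
  simp [polyWord, map_list_prod, List.map_map, Function.comp_def, map_orb]

theorem coe_prod_range {A : Subgroup G} [IsMulCommutative A] (n : ℕ) (e : ℕ → A) :
    ((∏ i ∈ Finset.range n, e i : A) : G) = ((List.range n).map fun i => (e i : G)).prod := by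
  induction n with
  | zero => simp
  | succ n ih => simp [Finset.prod_range_succ, List.range_succ, ih]

section Module

variable (A : Subgroup G) [IsMulCommutative A]

theorem nsmul_eq_zero_of_exponent (hexp : ∀ x ∈ A, x ^ p = 1) (x : Additive A) : p • x = 0 := by
  change Additive.ofMul (Additive.toMul x ^ p) = Additive.ofMul (1 : A)
  exact congrArg Additive.ofMul (Subtype.ext (hexp _ (Additive.toMul x).2))

/-- Conjugation by `h` as an endomorphism of an invariant commutative subgroup. -/
def conjEnd (h : G) (hinv : ∀ x ∈ A, h * x * h⁻¹ ∈ A) : Additive A →+ Additive A where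
  toFun x := Additive.ofMul ⟨h * ((Additive.toMul x : A) : G) * h⁻¹, hinv _ (Additive.toMul x : A).2⟩
  map_zero' := congrArg Additive.ofMul (Subtype.ext (by simp))
  map_add' x y := congrArg Additive.ofMul (Subtype.ext (by simp [mul_assoc]))

end Module

variable [Fact p.Prime]

/-- Evaluation of a polynomial at an endomorphism, without a chosen module structure. -/
theorem exists_aeval_apply' {V : Type*} [AddCommGroup V] [Module (ZMod p) V] (σ : V →+ V) (v : V) :
    ∃ E : (ZMod p)[X] → V,
      (∀ P, E P = ∑ i ∈ Finset.range (P.natDegree + 1), (P.coeff i).val • (σ^[i] v)) ∧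
      (∀ P Q, E (P + Q) = E P + E Q) ∧ (∀ P, E (X * P) = σ (E P)) := by
  let s : Module.End (ZMod p) V := σ.toZModLinearMap p
  have hs : ∀ i : ℕ, ∀ x, (s ^ i) x = σ^[i] x := fun i x => by
    rw [Module.End.pow_apply]; rfl
  refine ⟨fun P => aeval s P v, fun P => ?_, fun P Q => ?_, fun P => ?_⟩
  · simp only
    rw [aeval_eq_sum_range, LinearMap.sum_apply]
    refine Finset.sum_congr rfl fun i _ => ?_
    rw [LinearMap.smul_apply, hs]
    conv_lhs => rw [← ZMod.natCast_zmod_val (P.coeff i)]
    rw [Nat.cast_smul_eq_nsmul]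
  · simp
  · simp [s, Module.End.mul_apply]

/-- The same for any abelian group of exponent `p`. -/
theorem exists_aeval_apply {V : Type*} [AddCommGroup V] (σ : V →+ V) (v : V)
    (hp : ∀ x : V, p • x = 0) :
    ∃ E : (ZMod p)[X] → V,
      (∀ P, E P = ∑ i ∈ Finset.range (P.natDegree + 1), (P.coeff i).val • (σ^[i] v)) ∧
      (∀ P Q, E (P + Q) = E P + E Q) ∧ (∀ P, E (X * P) = σ (E P)) :=
  @exists_aeval_apply' _ _ V _ (AddCommGroup.zmodModule hp) σ v

/-- Polynomials in conjugation by `h`, applied to `u`. -/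
theorem exists_eval (A : Subgroup G) [IsMulCommutative A] (h u : G) (hu : u ∈ A)
    (hexp : ∀ x ∈ A, x ^ p = 1) (hinv : ∀ x ∈ A, h * x * h⁻¹ ∈ A) :
    ∃ ev : (ZMod p)[X] → G, (∀ P, ev P ∈ A) ∧ (∀ P, ev P = polyWord h u 1 P) ∧
      (∀ P Q, ev (P + Q) = ev P * ev Q) ∧ (∀ P, ev (X * P) = h * ev P * h⁻¹) := by
  obtain ⟨E, hE, hE1, hE2⟩ := exists_aeval_apply (p := p) (conjEnd A h hinv)
    (Additive.ofMul (⟨u, hu⟩ : A)) (nsmul_eq_zero_of_exponent A hexp)
  refine ⟨fun P => ((Additive.toMul (E P) : A) : G), fun P => SetLike.coe_mem _, fun P => ?_,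
    fun P Q => ?_, fun P => ?_⟩
  · have hσ : ∀ i : ℕ, ((Additive.toMul ((conjEnd A h hinv)^[i] (Additive.ofMul (⟨u, hu⟩ : A))) : A) : G)
        = orb h u (i : ℕ) := by
      intro i
      induction i with
      | zero => simp [orb]
      | succ i ih =>
        rw [Function.iterate_succ_apply']
        change h * ((Additive.toMul ((conjEnd A h hinv)^[i] (Additive.ofMul (⟨u, hu⟩ : A))) : A) : G) * h⁻¹ = _
        rw [ih, show ((i + 1 : ℕ) : ℤ) = 1 + (i : ℤ) by push_cast; ring, ← conj_orb, zpow_one]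
    simp only
    rw [hE, toMul_sum, coe_prod_range, polyWord]
    congr 1
    refine List.map_congr_left fun i _ => ?_
    rw [toMul_nsmul, SubgroupClass.coe_pow, hσ, one_mul]
  · simp only [hE1, toMul_add, Subgroup.coe_mul]
  · simp only [hE2]
    rfl

/-- A `g`-spaced polynomial word is an ordinary one. -/
theorem polyWord_comp (A : Subgroup G) [IsMulCommutative A] (h u : G) (hu : u ∈ A)
    (hexp : ∀ x ∈ A, x ^ p = 1) (hinv : ∀ x ∈ A, h * x * h⁻¹ ∈ A) (g : ℕ) (P : (ZMod p)[X]) :
    polyWord h u g P = polyWord h u 1 (P.comp (X ^ g)) := by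
  obtain ⟨ev, hmem, hword, hadd, hX⟩ := exists_eval A h u hu hexp hinv
  have hinvg : ∀ x ∈ A, h ^ g * x * (h ^ g)⁻¹ ∈ A := by
    induction g with
    | zero => simp
    | succ g ih =>
      intro x hx
      have : h ^ (g + 1) * x * (h ^ (g + 1))⁻¹ = h * (h ^ g * x * (h ^ g)⁻¹) * h⁻¹ := by
        rw [pow_succ']; group
      rw [this]
      exact hinv _ (ih x hx)
  obtain ⟨ev', hmem', hword', hadd', hX'⟩ := exists_eval A (h ^ g) u hu hexp hinvg
  have horb : ∀ i : ℕ, orb (h ^ g) u (i : ℕ) = orb h u (g * i : ℕ) := fun i => by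
    simp [orb, ← zpow_natCast, ← zpow_mul]
  have e1 : polyWord h u g P = ev' P := by
    rw [hword']
    simp only [polyWord, one_mul, horb]
  rw [e1, ← hword]
  have hXg : ∀ (n : ℕ) (Q : (ZMod p)[X]), ev (X ^ n * Q) = h ^ n * ev Q * (h ^ n)⁻¹ := by
    intro n
    induction n with
    | zero => simp
    | succ n ih =>
      intro Q
      rw [pow_succ', mul_assoc, hX, ih, pow_succ']
      group
  have hadd0 : ev 0 = 1 ∧ ev' 0 = 1 := by
    constructor
    · have := hadd 0 0; rw [add_zero] at this; simpa using this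
    · have := hadd' 0 0; rw [add_zero] at this; simpa using this
  have h1 : ev 1 = u ∧ ev' 1 = u := by
    rw [hword, hword']
    simp [polyWord, orb, ZMod.val_one]
  have hnat : ∀ (k : ℕ) (Q : (ZMod p)[X]), ev ((k : (ZMod p)[X]) * Q) = ev Q ^ k ∧
      ev' ((k : (ZMod p)[X]) * Q) = ev' Q ^ k := by
    intro k Q
    induction k with
    | zero => simpa using hadd0
    | succ k ih => rw [Nat.cast_succ, add_mul, one_mul, hadd, hadd', ih.1, ih.2, pow_succ, pow_succ]; exact ⟨rfl, rfl⟩
  have key : ∀ n : ℕ, ev ((X ^ g) ^ n) = ev' (X ^ n) := by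
    intro n
    induction n with
    | zero => simp [h1]
    | succ n ih => rw [pow_succ', pow_succ', hXg, hX', ih]
  clear e1
  induction P using Polynomial.induction_on' with
  | add P Q ihP ihQ => rw [add_comp, hadd, hadd', ihP, ihQ]
  | monomial n c =>
    rw [monomial_comp, ← C_mul_X_pow_eq_monomial, ← ZMod.natCast_zmod_val c, map_natCast,
      (hnat c.val ((X ^ g) ^ n)).1, (hnat c.val (X ^ n)).2, key]

/-- An additive copy of a field `F` inside `G`, given enough polynomial relations. -/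
theorem exists_psi {F : Type*} [Field F] [Algebra (ZMod p) F] (A : Subgroup G) [IsMulCommutative A]
    (h u : G) (hu : u ∈ A) (hexp : ∀ x ∈ A, x ^ p = 1) (hinv : ∀ x ∈ A, h * x * h⁻¹ ∈ A)
    (lam : F) (hsurj : Function.Surjective (aeval lam : (ZMod p)[X] → F))
    (S : Set (ZMod p)[X]) (hS : ∀ P ∈ S, polyWord h u 1 P = 1)
    (hspan : ∀ P : (ZMod p)[X], aeval lam P = 0 → P ∈ Ideal.span S) :
    ∃ ψ : F → G, (∀ x y, ψ (x + y) = ψ x * ψ y) ∧ ψ 1 = u ∧
      (∀ x, h * ψ x * h⁻¹ = ψ (lam * x)) ∧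
      ∀ P : (ZMod p)[X], ψ (aeval lam P) = polyWord h u 1 P := by
  obtain ⟨ev, hmem, hword, hadd, hX⟩ := exists_eval A h u hu hexp hinv
  have h0 : ev 0 = 1 := by have := hadd 0 0; rw [add_zero] at this; simpa using this
  have hmul : ∀ (Q P : (ZMod p)[X]), ev P = 1 → ev (Q * P) = 1 := by
    intro Q P hP
    induction Q using Polynomial.induction_on' with
    | add a b iha ihb => rw [add_mul, hadd, iha, ihb, mul_one]
    | monomial n c =>
      induction n with
      | zero =>
        rw [monomial_zero_left, ← ZMod.natCast_zmod_val c, map_natCast]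
        generalize c.val = k
        induction k with
        | zero => simpa using h0
        | succ k ih => rw [Nat.cast_succ, add_mul, one_mul, hadd, ih, hP, one_mul]
      | succ n ih =>
        rw [show monomial (n + 1) c = X * monomial n c from (X_mul_monomial n c).symm, mul_assoc, hX, ih]
        group
  have hI : ∀ P ∈ Ideal.span S, ev P = 1 := by
    intro P hP
    induction hP using Submodule.span_induction with
    | mem x hx => rw [hword]; exact hS x hx
    | zero => exact h0
    | add x y _ _ ihx ihy => rw [hadd, ihx, ihy, one_mul]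
    | smul a x _ ihx => exact hmul a x ihx
  have hcongr : ∀ P Q : (ZMod p)[X], aeval lam P = aeval lam Q → ev P = ev Q := by
    intro P Q hPQ
    have h1 := hI (P - Q) (hspan _ (by rw [map_sub, hPQ, sub_self]))
    rw [show P = (P - Q) + Q by ring, hadd, h1, one_mul]
  choose R hR using hsurj
  refine ⟨fun x => ev (R x), fun x y => ?_, ?_, fun x => ?_,
    fun P => (hcongr _ P (by rw [hR])).trans (hword P)⟩
  · rw [← hadd]; exact hcongr _ _ (by rw [map_add, hR, hR, hR])
  · refine (hcongr _ 1 (by rw [hR, map_one])).trans ?_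
    rw [hword]
    simp [polyWord, orb, ZMod.val_one]
  · rw [← hX]; exact hcongr _ _ (by rw [map_mul, aeval_X, hR, hR])

/-- The relation `X = f(X^g)` makes the other ones generate the whole kernel. -/
theorem exists_linking_poly {F : Type*} [Field F] [Finite F] [Algebra (ZMod p) F] (lam : F) (g N : ℕ)
    (hN : ¬ p ∣ N) (hlam : lam ^ N = 1)
    (hsurj : Function.Surjective (aeval (lam ^ g) : (ZMod p)[X] → F)) :
    ∃ f : (ZMod p)[X], aeval (lam ^ g) f = lam ∧ ∀ P : (ZMod p)[X], aeval lam P = 0 →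
      P ∈ Ideal.span {X - f.comp (X ^ g), X ^ N - 1} := by
  set μ := lam ^ g with hμ
  have hint : IsIntegral (ZMod p) μ := IsIntegral.of_finite (ZMod p) μ
  set m := minpoly (ZMod p) μ with hm
  obtain ⟨Q, hQ⟩ : m ∣ X ^ N - 1 := minpoly.dvd _ _ (by
    rw [map_sub, map_pow, aeval_X, map_one, sub_eq_zero, hμ, ← pow_mul, mul_comm, pow_mul, hlam,
      one_pow])
  have hQμ : aeval μ Q ≠ 0 := by
    intro h0
    obtain ⟨c, hc⟩ : m ∣ Q := minpoly.dvd _ _ h0
    have hsep : (X ^ N - 1 : (ZMod p)[X]).Separable := by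
      simpa using separable_X_pow_sub_C (1 : ZMod p)
        (by rwa [Ne, ZMod.natCast_eq_zero_iff]) one_ne_zero
    refine (minpoly.irreducible hint).not_isUnit (hsep.squarefree m ?_)
    rw [hQ, hc, ← mul_assoc]
    exact dvd_mul_right _ _
  obtain ⟨R, hR⟩ := hsurj (lam / aeval μ Q)
  refine ⟨Q * R, by rw [map_mul, hR, mul_div_cancel₀ _ hQμ], fun P hP => ?_⟩
  set f := Q * R with hf
  set I := Ideal.span ({X - f.comp (X ^ g), X ^ N - 1} : Set (ZMod p)[X]) with hI
  let π := Ideal.Quotient.mk I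
  rw [← Ideal.Quotient.eq_zero_iff_mem]
  change π P = 0
  set x := π X with hx
  have hxN : x ^ N = 1 := by
    rw [hx, ← map_pow, ← map_one π, Ideal.Quotient.eq]
    exact Ideal.subset_span (Or.inr rfl)
  have hxf : x = π (f.comp (X ^ g)) := by
    rw [hx, Ideal.Quotient.eq]
    exact Ideal.subset_span (Or.inl rfl)
  have hN0 : N ≠ 0 := fun h => hN (h ▸ dvd_zero p)
  have hmy : π (m.comp (X ^ g)) = 0 := by
    have h1 : π (m.comp (X ^ g)) * π (Q.comp (X ^ g)) = 0 := by
      rw [← map_mul, ← mul_comp, ← hQ, sub_comp, X_pow_comp, one_comp, map_sub, map_one,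
        ← pow_mul, mul_comm g, pow_mul, map_pow, map_pow, ← hx, hxN, one_pow, sub_self]
    have h2 : π (m.comp (X ^ g)) * x = 0 := by
      rw [hxf, hf, mul_comp, map_mul, ← mul_assoc, h1, zero_mul]
    calc π (m.comp (X ^ g)) = π (m.comp (X ^ g)) * x ^ N := by rw [hxN, mul_one]
      _ = π (m.comp (X ^ g)) * x * x ^ (N - 1) := by
          rw [mul_assoc, ← pow_succ', Nat.sub_add_cancel (Nat.pos_of_ne_zero hN0)]
      _ = 0 := by rw [h2, zero_mul]
  obtain ⟨c, hc⟩ : m ∣ P.comp f := minpoly.dvd _ _ (by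
    rw [aeval_comp, map_mul, hR, mul_div_cancel₀ _ hQμ, hP])
  have e : π P = π (P.comp (f.comp (X ^ g))) := by
    have hhom : ∀ S T : (ZMod p)[X], π (S.comp T) = S.eval₂ (π.comp C) (π T) := fun S T => by
      rw [Polynomial.comp, hom_eval₂]
    rw [hhom, ← hxf, hx, ← hhom, comp_X]
  rw [e, ← comp_assoc, hc, mul_comp, map_mul, hmy, zero_mul]

end Cfsg.Agent.SL2Presentation
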