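import Mathlib

set_option autoImplicit false

/-! One relation `u_b = u₀ * u_a` with commuting factors makes the whole orbit sublattice commute
(the trick of Campbell, Robertson and Williams). -/

namespace Cfsg.Agent.SL2Presentation

variable {G : Type*} [Group G]

/-- The conjugates `h ^ i * u * h ^ (-i)`. -/
def orb (h u : G) (i : ℤ) : G := h ^ i * u * (h ^ i)⁻¹

theorem orb_zero (h u : G) : orb h u 0 = u := by simp [orb]

theorem conj_orb (h u : G) (k i : ℤ) : h ^ k * orb h u i * (h ^ k)⁻¹ = orb h u (k + i) := by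
  simp only [orb, zpow_add]; group

theorem orb_mem_of_conj_invariant (h u : G) {A : Subgroup G} (hu : u ∈ A)
    (h1 : ∀ x ∈ A, h * x * h⁻¹ ∈ A) (n : ℕ) : orb h u n ∈ A := by
  induction n with
  | zero => simpa [orb] using hu
  | succ n ih =>
    have : orb h u (n + 1 : ℕ) = h * orb h u n * h⁻¹ := by
      rw [show ((n + 1 : ℕ) : ℤ) = 1 + n by push_cast; ring, ← conj_orb, zpow_one]
    rw [this]
    exact h1 _ ih

theorem orb_mul {h u : G} {p q r : ℤ} (e : orb h u r = orb h u p * orb h u q) (k : ℤ) :
    orb h u (k + r) = orb h u (k + p) * orb h u (k + q) := by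
  rw [← conj_orb, e, ← conj_orb h u k p, ← conj_orb h u k q]; group

theorem orb_commute {h u : G} {p q : ℤ} (e : Commute (orb h u p) (orb h u q)) (k : ℤ) :
    Commute (orb h u (k + p)) (orb h u (k + q)) := by
  have := e.map (MulAut.conj (h ^ k)).toMonoidHom
  simp only [MulEquiv.coe_toMonoidHom, MulAut.conj_apply, conj_orb] at this
  exact this

variable {h u : G} {a b : ℕ}

theorem lattice_row (hab : orb h u b = u * orb h u a) (hc : Commute u (orb h u a)) (N : ℕ) :
    ∀ k ≤ N, Commute u (orb h u (k * a : ℕ)) := by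
  induction N using Nat.strong_induction_on with
  | _ N ih =>
    intro k hk
    rcases Nat.lt_or_ge k N with hlt | hge
    · exact ih k hlt k le_rfl
    obtain rfl : k = N := le_antisymm hk hge
    rcases Nat.lt_or_ge k 2 with h2 | h2
    · interval_cases k
      · simp [orb_zero]
      · simpa using hc
    obtain ⟨m, rfl⟩ : ∃ m, k = m + 2 := ⟨k - 2, by omega⟩
    -- within distance `m + 1` everything commutes
    have C : ∀ (z : ℤ) (j : ℕ), j ≤ m + 1 → Commute (orb h u z) (orb h u (z + (j : ℤ) * a)) := by
      intro z j hj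
      have h' := ih (m + 1) (by omega) j hj
      rw [← orb_zero h u] at h'
      nth_rewrite 2 [orb_zero] at h'
      have h'' := orb_commute h' z
      simpa [Nat.cast_mul] using h''
    have tri : ∀ z : ℤ, orb h u (z + b) = orb h u z * orb h u (z + a) := fun z => by
      have hab' : orb h u b = orb h u 0 * orb h u a := by rw [orb_zero]; exact hab
      simpa using orb_mul hab' z
    -- `u₀ = u_b * u_a⁻¹` and `u_{(m+2)a} = u_{(m+1)a}⁻¹ * u_{(m+1)a+b}`
    have e0 : u = orb h u b * (orb h u a)⁻¹ := by rw [hab]; group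
    have e1 : orb h u ((m + 2 : ℕ) * a : ℕ) =
        (orb h u (((m + 1 : ℕ) : ℤ) * a))⁻¹ * orb h u ((((m + 1 : ℕ) : ℤ) * a) + b) := by
      rw [tri, show ((((m + 1 : ℕ) : ℤ) * a) + (a : ℤ)) = (((m + 2 : ℕ) * a : ℕ) : ℤ) by push_cast; ring]
      group
    have c1 : Commute (orb h u a) (orb h u ((m + 2 : ℕ) * a : ℕ)) := by
      convert C a (m + 1) le_rfl using 2
      push_cast; ring
    have c2 : Commute (orb h u b) (orb h u ((((m + 1 : ℕ) : ℤ) * a) + b)) := by
      convert C b (m + 1) le_rfl using 2
      ring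
    have c3 : Commute (orb h u b) (orb h u (((m + 1 : ℕ) : ℤ) * a)) := by
      rw [hab]
      refine Commute.mul_left ?_ ?_
      · have := C 0 (m + 1) le_rfl
        simpa [orb_zero] using this
      · have := C a m (by omega)
        rwa [show (a : ℤ) + (m : ℤ) * a = ((m + 1 : ℕ) : ℤ) * a by push_cast; ring] at this
    conv_lhs => rw [e0]
    refine Commute.mul_left ?_ c1.inv_left
    rw [e1]
    exact c3.inv_right.mul_right c2

theorem row_all (hab : orb h u b = u * orb h u a) (hc : Commute u (orb h u a)) (z : ℤ) (k : ℤ) :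
    Commute (orb h u z) (orb h u (z + k * a)) := by
  obtain ⟨j, rfl | rfl⟩ := Int.eq_nat_or_neg k
  · have h' := lattice_row hab hc j j le_rfl
    rw [← orb_zero h u] at h'
    nth_rewrite 2 [orb_zero] at h'
    have := orb_commute h' z
    simpa [Nat.cast_mul] using this
  · have h' := lattice_row hab hc j j le_rfl
    rw [← orb_zero h u] at h'
    nth_rewrite 2 [orb_zero] at h'
    have := (orb_commute h' (z + (-(j : ℤ)) * a)).symm
    simpa [Nat.cast_mul] using this

/-- All of `u_{x a + y b}` commute pairwise. -/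
theorem lattice_commute (hab : orb h u b = u * orb h u a) (hc : Commute u (orb h u a))
    (x y x' y' : ℤ) : Commute (orb h u (x * a + y * b)) (orb h u (x' * a + y' * b)) := by
  have hmem : ∀ (n : ℕ) (z i : ℤ),
      orb h u (z + i * a + (n : ℤ) * b) ∈ Subgroup.closure (Set.range fun j : ℤ => orb h u (z + j * a)) := by
    intro n z
    induction n with
    | zero => intro i; exact Subgroup.subset_closure ⟨i, by simp⟩
    | succ n ih =>
      intro i
      have hab' : orb h u b = orb h u 0 * orb h u a := by rw [orb_zero]; exact hab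
      have := orb_mul hab' (z + i * a + (n : ℤ) * b)
      rw [show z + i * a + ((n + 1 : ℕ) : ℤ) * b = z + i * a + (n : ℤ) * b + b by push_cast; ring, this]
      refine mul_mem (by simpa using ih i) ?_
      convert ih (i + 1) using 2
      ring
  set z : ℤ := min y y' * b with hz
  set R := Subgroup.closure (Set.range fun j : ℤ => orb h u (z + j * a)) with hR
  obtain ⟨n, hn⟩ := Int.eq_ofNat_of_zero_le (show 0 ≤ y - min y y' by omega)
  obtain ⟨n', hn'⟩ := Int.eq_ofNat_of_zero_le (show 0 ≤ y' - min y y' by omega)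
  have h1 : orb h u (x * a + y * b) ∈ R := by
    rw [show x * a + y * b = z + x * a + (n : ℤ) * b by rw [hz, ← hn]; ring]
    exact hmem n z x
  have h2 : orb h u (x' * a + y' * b) ∈ R := by
    rw [show x' * a + y' * b = z + x' * a + (n' : ℤ) * b by rw [hz, ← hn']; ring]
    exact hmem n' z x'
  have hcomm : IsMulCommutative R := Subgroup.isMulCommutative_closure (by
    rintro _ ⟨i, rfl⟩ _ ⟨j, rfl⟩
    have := row_all hab hc (z + i * a) (j - i)
    have e : z + i * a + (j - i) * a = z + j * a := by ring
    rw [e] at this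
    exact this)
  exact congrArg Subtype.val (hcomm.is_comm.comm ⟨_, h1⟩ ⟨_, h2⟩)

/-- The orbit along `g = gcd a b` commutes. -/
theorem gcd_commute (hab : orb h u b = u * orb h u a) (hc : Commute u (orb h u a)) (i j : ℤ) :
    Commute (orb h u (i * (Nat.gcd a b : ℕ))) (orb h u (j * (Nat.gcd a b : ℕ))) := by
  have := lattice_commute hab hc (i * Nat.gcdA a b) (i * Nat.gcdB a b) (j * Nat.gcdA a b) (j * Nat.gcdB a b)
  convert this using 2 <;> rw [Nat.gcd_eq_gcd_ab] <;> ring

end Cfsg.Agent.SL2Presentation
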