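import Cfsg.Agent.Lib.SL2Presentation.Order
import Cfsg.Agent.Lib.SL2Presentation.Model
import Cfsg.Agent.Lib.GL.Basic

set_option autoImplicit false

/-! Short presentations of `SL₂(q)` and `PSL₂(q)` for odd `q`. -/

namespace Cfsg.Agent.SL2Presentation

open Polynomial Matrix
open scoped IsMulCommutative

/-- The free group on `u`, `h`, `t`. -/
abbrev FG : Type := FreeGroup (Fin 3)

abbrev gU : FG := FreeGroup.of 0
abbrev gH : FG := FreeGroup.of 1
abbrev gT : FG := FreeGroup.of 2

theorem isMulCommutative_closure_of {G : Type*} [Group G] {S : Set G}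
    (hS : ∀ x ∈ S, ∀ y ∈ S, x * y = y * x) : IsMulCommutative (Subgroup.closure S) :=
  Subgroup.isMulCommutative_closure hS

theorem exponent_closure {G : Type*} [Group G] {p : ℕ} {S : Set G}
    (hS : ∀ x ∈ S, ∀ y ∈ S, x * y = y * x) (hp : ∀ x ∈ S, x ^ p = 1) :
    ∀ x ∈ Subgroup.closure S, x ^ p = 1 := by
  have hc := isMulCommutative_closure_of hS
  intro x hx
  induction hx using Subgroup.closure_induction with
  | mem y hy => exact hp y hy
  | one => exact one_pow _
  | mul y z hy hz ihy ihz =>
    have : Commute y z := congrArg Subtype.val (hc.is_comm.comm ⟨y, hy⟩ ⟨z, hz⟩)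
    rw [this.mul_pow, ihy, ihz, one_mul]
  | inv y _ ihy => rw [inv_pow, ihy, inv_one]

theorem conj_invariant_closure {G : Type*} [Group G] {S : Set G} (g : G)
    (hS : ∀ x ∈ S, g * x * g⁻¹ ∈ Subgroup.closure S) :
    ∀ x ∈ Subgroup.closure S, g * x * g⁻¹ ∈ Subgroup.closure S := by
  have : Subgroup.closure S ≤ (Subgroup.closure S).comap (MulAut.conj g).toMonoidHom := by
    rw [Subgroup.closure_le]
    exact hS
  exact fun x hx => this hx

theorem polyWord_mem {G : Type*} [Group G] {p : ℕ} {A : Subgroup G} (h u : G) (g : ℕ) (P : (ZMod p)[X])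
    (hA : ∀ i : ℕ, orb h u (g * i : ℕ) ∈ A) : polyWord h u g P ∈ A := by
  refine Subgroup.list_prod_mem A fun x hx => ?_
  obtain ⟨i, -, rfl⟩ := List.mem_map.mp hx
  exact pow_mem (hA i) _

variable {F : Type*} [Field F] [Fintype F] {p : ℕ} [Fact p.Prime] [Algebra (ZMod p) F]

/-- The evaluation in `SL₂(F)`. -/
abbrev model (ω : Fˣ) : FG →* Matrix.SpecialLinearGroup (Fin 2) F :=
  FreeGroup.lift ![uL (1 : F), dL ω, tL]

theorem model_U (ω : Fˣ) : model ω gU = uL (1 : F) := by simp
theorem model_H (ω : Fˣ) : model ω gH = dL ω := by simp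
theorem model_T (ω : Fˣ) : model ω gT = (tL : Matrix.SpecialLinearGroup (Fin 2) F) := by simp

theorem orb_model (c : Fˣ) (i : ℕ) :
    orb (dL c) (uL (1 : F)) (i : ℤ) = uL (((c : F) ^ 2) ^ i) := by
  rw [orb, zpow_natCast, ← map_pow, dL_conj, mul_one, Units.val_pow_eq_pow_val, ← pow_mul, ← pow_mul,
    mul_comm]

theorem uL_pow_char (x : F) : uL x ^ p = 1 := by
  have : CharP F p := (Algebra.charP_iff (ZMod p) F p).mp inferInstance
  rw [← uL_nsmul, CharP.cast_eq_zero, zero_mul, uL_zero]

theorem sq_ne_neg_one_zmod_three : ∀ e : ZMod 3, e ^ 2 ≠ -1 := by decide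

/-- Relations forcing the orbit of `u` to be a copy of the field. -/
theorem exists_package (ω : Fˣ) (hω : orderOf ω = Fintype.card F - 1) (hp : p ≠ 2) :
    ∃ R0 : Finset FG, R0.card ≤ 4 ∧ (∀ r ∈ R0, model ω r = 1) ∧
      ∀ {G : Type} [Group G] (φ : FG →* G), (∀ r ∈ R0, φ r = 1) →
        φ gH ^ (Fintype.card F - 1) = 1 →
        ∃ ψ : F → G, (∀ x y, ψ (x + y) = ψ x * ψ y) ∧ ψ 1 = φ gU ∧
          (∀ x, φ gH * ψ x * (φ gH)⁻¹ = ψ ((ω : F) ^ 2 * x)) ∧
          ∀ P : (ZMod p)[X], ψ (aeval ((ω : F) ^ 2) P) = polyWord (φ gH) (φ gU) 1 P := by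
  classical
  set lam : F := (ω : F) ^ 2 with hlam
  have hsurj := aeval_sq_surjective (p := p) ω hω
  have hchar : CharP F p := (Algebra.charP_iff (ZMod p) F p).mp inferInstance
  have hp3 : 3 ≤ p := by have := (Fact.out : p.Prime).two_le; omega
  obtain ⟨d, -, hd⟩ := FiniteField.card F p
  have hUp : model ω (gU ^ p) = 1 := by rw [map_pow, model_U, uL_pow_char]
  by_cases hqp : Fintype.card F = p
  · -- the prime field
    obtain ⟨c, hc⟩ : ∃ c : ZMod p, algebraMap (ZMod p) F c = lam :=
      ((Fintype.bijective_iff_injective_and_card _).mpr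
        ⟨(algebraMap (ZMod p) F).injective, by rw [ZMod.card, hqp]⟩).2 lam
    set P0 : (ZMod p)[X] := X - C c with hP0
    refine ⟨{gU ^ p, polyWord gH gU 1 P0}, (Finset.card_le_two).trans (by norm_num), ?_, ?_⟩
    · simp only [Finset.mem_insert, Finset.mem_singleton]
      rintro r (rfl | rfl)
      · exact hUp
      · rw [map_polyWord, model_H, model_U, polyWord_uL, pow_one, ← hlam, hP0, map_sub, aeval_X,
          aeval_C, hc, sub_self, uL_zero]
    · intro G _ φ hφ hN
      set h := φ gH with hh
      set u := φ gU with hu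
      have hup : u ^ p = 1 := by rw [hu, ← map_pow]; exact hφ _ (by simp)
      have hw : polyWord h u 1 P0 = 1 := by rw [hh, hu, ← map_polyWord]; exact hφ _ (by simp)
      set A := Subgroup.closure ({u} : Set G) with hA
      have huA : u ∈ A := Subgroup.subset_closure rfl
      have hcomm : ∀ x ∈ ({u} : Set G), ∀ y ∈ ({u} : Set G), x * y = y * x := by simp
      have := isMulCommutative_closure_of hcomm
      have hexp := exponent_closure hcomm (p := p) (by simp [hup])
      have h1 : orb h u 1 ∈ A := by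
        have hdeg : P0.natDegree = 1 := natDegree_X_sub_C c
        have hco : (P0.coeff 1).val = 1 := by simp [hP0, ZMod.val_one]
        simp only [polyWord, hdeg, List.range_succ, List.range_zero, List.nil_append, List.map_append,
          List.map_cons, List.map_nil, List.prod_append, List.prod_cons, List.prod_nil, one_mul,
          mul_one, hco, pow_one, Nat.cast_one, Nat.cast_zero, orb_zero] at hw
        rw [eq_inv_of_mul_eq_one_right hw]
        exact inv_mem (pow_mem huA _)
      have hinv : ∀ x ∈ A, h * x * h⁻¹ ∈ A := by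
        refine conj_invariant_closure h fun x hx => ?_
        rw [Set.mem_singleton_iff] at hx
        subst hx
        simpa [orb] using h1
      exact exists_psi A h u huA hexp hinv lam hsurj {P0} (by simpa using hw) fun P hP => by
        rw [Ideal.mem_span_singleton]
        refine (dvd_iff_isRoot).mpr ((algebraMap (ZMod p) F).injective ?_)
        rw [map_zero, ← aeval_algebraMap_apply_eq_algebraMap_eval, hc, hP]
  by_cases hq9 : Fintype.card F = 9
  · -- the field with nine elements
    obtain ⟨hp', hd2⟩ : p = 3 ∧ (d : ℕ) = 2 := by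
      have hd' : p ^ (d : ℕ) = 9 := hd.symm.trans hq9
      have hdvd : p ∣ 3 ^ 2 := by rw [show (3 : ℕ) ^ 2 = 9 from rfl, ← hd']; exact dvd_pow_self p d.ne_zero
      have hp' := (Nat.prime_dvd_prime_iff_eq Fact.out Nat.prime_three).mp
        ((Fact.out : p.Prime).dvd_of_dvd_pow hdvd)
      subst hp'
      exact ⟨rfl, Nat.pow_right_injective (show 2 ≤ 3 by norm_num) (show 3 ^ (d : ℕ) = 3 ^ 2 from hd')⟩
    set P0 : (ZMod p)[X] := X ^ 2 + C 1 with hP0
    have hl : lam ^ 2 = -1 := by
      have h4 : (ω : F) ^ 4 ≠ 1 := fun h => by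
        have h' : ω ^ 4 = 1 := Units.ext (by rw [Units.val_pow_eq_pow_val, h, Units.val_one])
        have := Nat.le_of_dvd (by norm_num) (orderOf_dvd_of_pow_eq_one h')
        omega
      have h8 : (ω : F) ^ 8 = 1 := by
        have := FiniteField.pow_card_sub_one_eq_one (ω : F) ω.ne_zero
        rwa [hq9] at this
      rw [hlam, ← pow_mul]
      exact ((mul_self_eq_one_iff).mp (by rw [← pow_add]; exact h8)).resolve_left h4
    have hroot : aeval lam P0 = 0 := by rw [hP0, map_add, map_pow, aeval_X, aeval_C, map_one, hl, neg_add_cancel]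
    refine ⟨{gU ^ p, gU * orb gH gU 1 * gU⁻¹ * (orb gH gU 1)⁻¹, polyWord gH gU 1 P0},
      Finset.card_le_three.trans (by norm_num), ?_, ?_⟩
    · simp only [Finset.mem_insert, Finset.mem_singleton]
      rintro r (rfl | rfl | rfl)
      · exact hUp
      · have : orb (dL ω) (uL (1 : F)) 1 = uL lam := by
          have := orb_model (F := F) ω 1
          simpa using this
        simp only [map_mul, map_inv, map_orb, model_H, model_U, this]
        rw [← uL_add, add_comm, uL_add]; group
      · rw [map_polyWord, model_H, model_U, polyWord_uL, pow_one, ← hlam, hroot, uL_zero]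
    · intro G _ φ hφ hN
      set h := φ gH with hh
      set u := φ gU with hu
      have hup : u ^ p = 1 := by rw [hu, ← map_pow]; exact hφ _ (by simp)
      have hw : polyWord h u 1 P0 = 1 := by rw [hh, hu, ← map_polyWord]; exact hφ _ (by simp)
      have hc : u * orb h u 1 = orb h u 1 * u := by
        have := hφ (gU * orb gH gU 1 * gU⁻¹ * (orb gH gU 1)⁻¹) (by simp)
        simp only [map_mul, map_inv, map_orb, ← hh, ← hu] at this
        exact mul_inv_eq_iff_eq_mul.mp (mul_inv_eq_one.mp this)
      set A := Subgroup.closure ({u, orb h u 1} : Set G) with hA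
      have huA : u ∈ A := Subgroup.subset_closure (Or.inl rfl)
      have h1A : orb h u 1 ∈ A := Subgroup.subset_closure (Or.inr rfl)
      have hcomm : ∀ x ∈ ({u, orb h u 1} : Set G), ∀ y ∈ ({u, orb h u 1} : Set G), x * y = y * x := by
        rintro x (rfl | rfl) y (rfl | rfl) <;> first | rfl | exact hc | exact hc.symm
      have := isMulCommutative_closure_of hcomm
      have horbp : orb h u 1 ^ p = 1 := by simp only [orb, conj_pow, hup, mul_one, mul_inv_cancel]
      have hexp := exponent_closure hcomm (p := p) (by simp [hup, horbp])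
      have h2 : orb h u 2 ∈ A := by
        have hdeg : P0.natDegree = 2 := natDegree_X_pow_add_C
        have hc0 : (P0.coeff 0).val = 1 := by simp [hP0, ZMod.val_one]
        have hc1 : (P0.coeff 1).val = 0 := by simp [hP0, coeff_one]
        have hc2 : (P0.coeff 2).val = 1 := by simp [hP0, coeff_one, ZMod.val_one]
        simp only [polyWord, hdeg, List.range_succ, List.range_zero, List.nil_append, List.map_append,
          List.map_cons, List.map_nil, List.prod_append, List.prod_cons, List.prod_nil, one_mul,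
          mul_one, hc0, hc1, hc2, pow_one, pow_zero, Nat.cast_ofNat, Nat.cast_zero, orb_zero] at hw
        rw [eq_inv_of_mul_eq_one_right hw]
        exact inv_mem huA
      have hinv : ∀ x ∈ A, h * x * h⁻¹ ∈ A := by
        refine conj_invariant_closure h ?_
        rintro x (rfl | rfl)
        · rw [show h * u * h⁻¹ = orb h u 1 by simp [orb]]
          exact h1A
        · rw [show h * orb h u 1 * h⁻¹ = orb h u 2 by
            rw [show (2 : ℤ) = 1 + 1 from rfl, ← conj_orb, zpow_one]]
          exact h2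
      exact exists_psi A h u huA hexp hinv lam hsurj {P0} (by simpa using hw) fun P hP => by
        rw [Ideal.mem_span_singleton]
        have hmonic : P0.Monic := monic_X_pow_add_C _ (by norm_num)
        have hr : aeval lam (P %ₘ P0) = 0 := by
          have := congrArg (aeval lam) (modByMonic_add_div P P0)
          rwa [map_add, map_mul, hroot, hP, zero_mul, add_zero] at this
        have hdegr : (P %ₘ P0).natDegree ≤ 1 := by
          have := natDegree_modByMonic_lt P hmonic (fun h => by
            have := congrArg natDegree h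
            rw [natDegree_X_pow_add_C, natDegree_one] at this; omega)
          rw [natDegree_X_pow_add_C] at this; omega
        rw [← modByMonic_eq_zero_iff_dvd hmonic]
        obtain ⟨a, b, hab⟩ := exists_eq_X_add_C_of_natDegree_le_one hdegr
        rw [hab] at hr ⊢
        rw [map_add, map_mul, aeval_C, aeval_C, aeval_X] at hr
        have ha : a = 0 := by
          by_contra ha
          obtain ⟨e, he⟩ : ∃ e : ZMod p, lam = algebraMap (ZMod p) F e := ⟨-b / a, by
            rw [map_div₀, map_neg, eq_div_iff ((_root_.map_ne_zero _).mpr ha)]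
            linear_combination hr⟩
          have hsq : e ^ 2 = -1 := (algebraMap (ZMod p) F).injective (by
            rw [map_pow, ← he, hl, map_neg, map_one])
          subst hp'
          exact sq_ne_neg_one_zmod_three e hsq
        rw [ha, map_zero, zero_mul, zero_add] at hr
        rw [ha, (map_eq_zero _).mp hr]
        simp
  -- the general case
  have hd2 : 2 ≤ (d : ℕ) := by
    by_contra hlt
    have : (d : ℕ) = 1 := by have := d.pos; omega
    exact hqp (by rw [hd, this, pow_one])
  have hq9' : 10 ≤ Fintype.card F := by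
    have h1 : p * p ≤ Fintype.card F := by
      rw [hd, ← pow_two]; exact Nat.pow_le_pow_right (by omega) hd2
    have := Nat.mul_le_mul hp3 hp3
    omega
  have h2F : (2 : F) ≠ 0 := Ring.two_ne_zero ((ringChar.eq F p).symm ▸ hp)
  have hord : ∀ k : ℕ, 0 < k → k < Fintype.card F - 1 → (ω : F) ^ k ≠ 1 := fun k hk0 hk h => by
    have h' : ω ^ k = 1 := Units.ext (by rw [Units.val_pow_eq_pow_val, h, Units.val_one])
    have := Nat.le_of_dvd hk0 (orderOf_dvd_of_pow_eq_one h')
    omega
  set x : F := ((ω : F) - (ω : F)⁻¹) / 2 with hx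
  set y : F := ((ω : F) + (ω : F)⁻¹) / 2 with hy
  have hx0 : x ≠ 0 := fun h => hord 2 (by norm_num) (by omega) (by
    rw [hx] at h; field_simp at h; linear_combination h)
  have hy0 : y ≠ 0 := fun h => hord 4 (by norm_num) (by omega) (by
    rw [hy] at h; field_simp at h; linear_combination ((ω : F) ^ 2 - 1) * h)
  have hgen : ∀ c : Fˣ, ∃ n : ℕ, ω ^ n = c := fun c => by
    have hc : c ∈ Subgroup.zpowers ω := by
      rw [Subgroup.eq_top_of_card_eq (Subgroup.zpowers ω)
        (by rw [Nat.card_zpowers, hω, Nat.card_eq_fintype_card, Fintype.card_units])]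
      exact Subgroup.mem_top c
    exact mem_powers_iff_mem_zpowers.mpr hc
  obtain ⟨a, ha⟩ := hgen (Units.mk0 x hx0)
  obtain ⟨b, hb⟩ := hgen (Units.mk0 y hy0)
  have hxa : lam ^ a = x ^ 2 := by
    have := congrArg Units.val ha
    rw [Units.val_pow_eq_pow_val, Units.val_mk0] at this
    rw [hlam, ← pow_mul, mul_comm, pow_mul, this]
  have hyb : lam ^ b = y ^ 2 := by
    have := congrArg Units.val hb
    rw [Units.val_pow_eq_pow_val, Units.val_mk0] at this
    rw [hlam, ← pow_mul, mul_comm, pow_mul, this]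
  have hab : lam ^ b = 1 + lam ^ a := by
    rw [hxa, hyb, hx, hy]
    field_simp
    ring
  set g := Nat.gcd a b with hg
  have hμ : Function.Surjective (aeval (lam ^ g) : (ZMod p)[X] → F) := by
    intro z
    obtain ⟨P, rfl⟩ := aeval_conic_surjective (p := p) ω hω hp hq9 z
    obtain ⟨k, hk⟩ := Nat.gcd_dvd_left a b
    refine ⟨P.comp (X ^ k), ?_⟩
    rw [aeval_comp, map_pow, aeval_X, ← pow_mul, ← hk, hxa]
  set N := Fintype.card F - 1 with hNdef
  have hlamN : lam ^ N = 1 := by
    rw [hlam, ← pow_mul, mul_comm, pow_mul, FiniteField.pow_card_sub_one_eq_one _ ω.ne_zero, one_pow]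
  have hNp : ¬ p ∣ N := fun h => by
    have h1 : p ∣ Fintype.card F := by rw [hd]; exact dvd_pow_self p d.ne_zero
    have := Nat.dvd_sub h1 h
    rw [hNdef, show Fintype.card F - (Fintype.card F - 1) = 1 by omega, Nat.dvd_one] at this
    omega
  obtain ⟨f, hfμ, hf⟩ := exists_linking_poly lam g N hNp hlamN hμ
  refine ⟨{gU ^ p, gU * orb gH gU a * gU⁻¹ * (orb gH gU a)⁻¹, orb gH gU b * (gU * orb gH gU a)⁻¹,
    gH * gU * gH⁻¹ * (polyWord gH gU g f)⁻¹}, Finset.card_le_four, ?_, ?_⟩
  · simp only [Finset.mem_insert, Finset.mem_singleton]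
    rintro r (rfl | rfl | rfl | rfl)
    · exact hUp
    · simp only [map_mul, map_inv, map_orb, model_H, model_U, orb_model]
      rw [← uL_add, add_comm, uL_add]; group
    · simp only [map_mul, map_inv, map_orb, model_H, model_U, orb_model, ← hlam]
      rw [← uL_add, hab, mul_inv_cancel]
    · simp only [map_mul, map_inv, map_polyWord, model_H, model_U]
      rw [dL_conj, polyWord_uL, mul_one, ← hlam, hfμ, mul_inv_cancel]
  · intro G _ φ hφ hN
    set h := φ gH with hh
    set u := φ gU with hu
    have hup : u ^ p = 1 := by rw [hu, ← map_pow]; exact hφ _ (by simp)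
    have hc : Commute u (orb h u a) := by
      have := hφ (gU * orb gH gU a * gU⁻¹ * (orb gH gU a)⁻¹) (by simp)
      simp only [map_mul, map_inv, map_orb, ← hh, ← hu] at this
      exact mul_inv_eq_iff_eq_mul.mp (mul_inv_eq_one.mp this)
    have hbrel : orb h u b = u * orb h u a := by
      have := hφ (orb gH gU b * (gU * orb gH gU a)⁻¹) (by simp)
      simp only [map_mul, map_inv, map_orb, ← hh, ← hu] at this
      exact mul_inv_eq_one.mp this
    have hlink : h * u * h⁻¹ = polyWord h u g f := by
      have := hφ (gH * gU * gH⁻¹ * (polyWord gH gU g f)⁻¹) (by simp)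
      simp only [map_mul, map_inv, map_polyWord, ← hh, ← hu] at this
      exact mul_inv_eq_one.mp this
    set S : Set G := Set.range fun i : ℤ => orb h u (i * (g : ℤ)) with hS
    set A := Subgroup.closure S with hA
    have hcomm : ∀ x ∈ S, ∀ y ∈ S, x * y = y * x := by
      rintro _ ⟨i, rfl⟩ _ ⟨j, rfl⟩
      exact gcd_commute hbrel hc i j
    have := isMulCommutative_closure_of hcomm
    have hexp := exponent_closure hcomm (p := p) (by
      rintro _ ⟨i, rfl⟩; simp only [orb, conj_pow, hup, mul_one, mul_inv_cancel])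
    have huA : u ∈ A := Subgroup.subset_closure ⟨0, by simp [orb]⟩
    have hinv : ∀ z ∈ A, h * z * h⁻¹ ∈ A := by
      refine conj_invariant_closure h ?_
      rintro _ ⟨i, rfl⟩
      have e : h * orb h u (i * (g : ℤ)) * h⁻¹ =
          h ^ (i * (g : ℤ)) * polyWord h u g f * (h ^ (i * (g : ℤ)))⁻¹ := by
        rw [← hlink]; simp only [orb]; group
      simp only [e]
      refine conj_invariant_closure _ ?_ _ (polyWord_mem h u g f fun j =>
        Subgroup.subset_closure ⟨j, by simp only [Nat.cast_mul, mul_comm]⟩)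
      rintro _ ⟨j, rfl⟩
      simp only [conj_orb]
      exact Subgroup.subset_closure ⟨i + j, by simp only [add_mul]⟩
    obtain ⟨ev, -, hword, hadd, hX⟩ := exists_eval A h u huA hexp hinv
    have h1 : ev 1 = u := by rw [hword]; simp [polyWord, orb, ZMod.val_one]
    refine exists_psi A h u huA hexp hinv lam hsurj {X - f.comp (X ^ g), X ^ N - 1} ?_ hf
    rintro P (rfl | rfl) <;> rw [← hword]
    · have := hadd (X - f.comp (X ^ g)) (f.comp (X ^ g))
      have hX1 : ev X = h * u * h⁻¹ := by rw [← mul_one (X : (ZMod p)[X]), hX, h1]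
      rw [sub_add_cancel, hX1, hlink, hword (f.comp (X ^ g)),
        ← polyWord_comp A h u huA hexp hinv g f] at this
      exact mul_eq_right.mp this.symm
    · have hXn : ∀ n : ℕ, ev (X ^ n) = h ^ n * u * (h ^ n)⁻¹ := by
        intro n
        induction n with
        | zero => simp [h1]
        | succ n ih => rw [pow_succ', hX, ih, pow_succ']; group
      have := hadd (X ^ N - 1) 1
      rw [sub_add_cancel, hXn, h1, hN, one_mul, inv_one, mul_one] at this
      exact mul_eq_right.mp this.symm

/-- The word `T W(x) T (W(α) T W(β) H^i)⁻¹`. -/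
noncomputable def bruhatWord (P Q R : (ZMod p)[X]) (i : ℕ) : FG :=
  gT * polyWord gH gU 1 P * gT * (polyWord gH gU 1 Q * gT * polyWord gH gU 1 R * gH ^ i)⁻¹

theorem exists_bruhatWord (ω : Fˣ) (hω : orderOf ω = Fintype.card F - 1)
    (hsurj : Function.Surjective (aeval ((ω : F) ^ 2) : (ZMod p)[X] → F)) (x : F) (hx : x ≠ 0) :
    ∃ r : FG, model ω r = 1 ∧ ∀ {G : Type} [Group G] (φ : FG →* G) (ψ : F → G),
      (∀ P : (ZMod p)[X], ψ (aeval ((ω : F) ^ 2) P) = polyWord (φ gH) (φ gU) 1 P) → φ r = 1 →
      ∃ a b : F, ∃ i : ℤ, φ gT * ψ x * φ gT = ψ a * φ gT * ψ b * φ gH ^ i := by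
  classical
  obtain ⟨P, hP⟩ := hsurj x
  obtain ⟨Q, hQ⟩ := hsurj (-x⁻¹)
  obtain ⟨R, hR⟩ := hsurj (-x)
  obtain ⟨i, hi⟩ : ∃ i : ℕ, ω ^ i = Units.mk0 (-x) (neg_ne_zero.mpr hx) := by
    have hc : Units.mk0 (-x) (neg_ne_zero.mpr hx) ∈ Subgroup.zpowers ω := by
      rw [Subgroup.eq_top_of_card_eq (Subgroup.zpowers ω)
        (by rw [Nat.card_zpowers, hω, Nat.card_eq_fintype_card, Fintype.card_units])]
      exact Subgroup.mem_top _
    exact mem_powers_iff_mem_zpowers.mpr hc
  refine ⟨bruhatWord P Q R i, ?_, fun φ ψ hψ hφ => ⟨-x⁻¹, -x, i, ?_⟩⟩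
  · simp only [bruhatWord, map_mul, map_inv, map_pow, map_polyWord, model_H, model_U, model_T,
      polyWord_uL, pow_one, hP, hQ, hR]
    rw [← map_pow, hi, tL_uL_tL x hx, mul_inv_cancel]
  · simp only [bruhatWord, map_mul, map_inv, map_pow, map_polyWord, ← hψ, hP, hQ, hR] at hφ
    rw [zpow_natCast]
    exact mul_inv_eq_one.mp hφ

/-- The odd case. -/
theorem presentation_odd (hp : p ≠ 2) :
    (∃ rels : Finset FG, rels.card ≤ 9 ∧
      Nonempty (PresentedGroup (↑rels : Set FG) ≃* Matrix.SpecialLinearGroup (Fin 2) F)) ∧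
    (∃ rels : Finset FG, rels.card ≤ 9 ∧
      Nonempty (PresentedGroup (↑rels : Set FG) ≃* Matrix.ProjectiveSpecialLinearGroup (Fin 2) F)) := by
  classical
  obtain ⟨ω, hω⟩ := IsCyclic.exists_generator (α := Fˣ)
  have hωord : orderOf ω = Fintype.card F - 1 := by
    rw [orderOf_eq_card_of_forall_mem_zpowers hω, Nat.card_eq_fintype_card, Fintype.card_units]
  have hsurj := aeval_sq_surjective (p := p) ω hωord
  obtain ⟨R0, hR0card, hR0, hpkg⟩ := exists_package (p := p) ω hωord hp
  obtain ⟨w1, hw1, hw1'⟩ := exists_bruhatWord (p := p) ω hωord hsurj 1 one_ne_zero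
  obtain ⟨w2, hw2, hw2'⟩ := exists_bruhatWord (p := p) ω hωord hsurj (ω : F) ω.ne_zero
  have : CharP F p := (Algebra.charP_iff (ZMod p) F p).mp inferInstance
  have h2F : (2 : F) ≠ 0 := Ring.two_ne_zero ((ringChar.eq F p).symm ▸ hp)
  have hq3 : 3 ≤ Fintype.card F := by
    obtain ⟨d, hpp, hd⟩ := FiniteField.card F p
    rw [hd]
    exact (Nat.le_self_pow d.ne_zero p).trans' (by have := hpp.two_le; omega)
  obtain ⟨m, hm⟩ : 2 ∣ Fintype.card F - 1 := by
    have h : Fintype.card F % 2 = 1 := FiniteField.odd_card_of_char_ne_two ((ringChar.eq F p).symm ▸ hp)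
    omega
  have hmω : ω ^ m = -1 := by
    apply Units.ext
    have h1 : ((ω : F) ^ m) * ((ω : F) ^ m) = 1 := by
      rw [← pow_add, ← two_mul, ← hm, FiniteField.pow_card_sub_one_eq_one _ ω.ne_zero]
    rw [Units.val_pow_eq_pow_val, Units.val_neg, Units.val_one]
    refine (mul_self_eq_one_iff.mp h1).resolve_left fun h => ?_
    have h' : ω ^ m = 1 := Units.ext (by rw [Units.val_pow_eq_pow_val, h, Units.val_one])
    have := Nat.le_of_dvd (by omega) (orderOf_dvd_of_pow_eq_one h')
    omega
  let rels : Finset FG := {gT * gT * (gH ^ m)⁻¹, gT * gH * gT⁻¹ * gH, w1, w2} ∪ R0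
  have hcard : rels.card ≤ 8 := (Finset.card_union_le _ _).trans (Nat.add_le_add Finset.card_le_four hR0card)
  have hmodel : ∀ r ∈ rels, model ω r = 1 := by
    intro r hr
    simp only [rels, Finset.mem_union, Finset.mem_insert, Finset.mem_singleton] at hr
    rcases hr with (rfl | rfl | rfl | rfl) | hr
    · simp only [map_mul, map_inv, map_pow, model_H, model_T]
      rw [← map_pow, hmω, tL_sq, mul_inv_cancel]
    · simp only [map_mul, map_inv, model_H, model_T]
      rw [tL_conj, inv_mul_cancel]
    · exact hw1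
    · exact hw2
    · exact hR0 r hr
  have hrange : (model ω).range = ⊤ := by
    refine closure_eq_top ω hω _ (fun x => ?_) ⟨gH, model_H ω⟩ ⟨gT, model_T ω⟩
    obtain ⟨P, rfl⟩ := hsurj x
    exact ⟨polyWord gH gU 1 P, by rw [map_polyWord, model_H, model_U, polyWord_uL, pow_one]⟩
  have hbound : ∀ (rs : Finset FG), rels ⊆ rs → ∀ k : ℕ, 0 < k →
      (PresentedGroup.of 1 : PresentedGroup (↑rs : Set FG)) ^ k = 1 →
      Finite (PresentedGroup (↑rs : Set FG)) ∧
        Nat.card (PresentedGroup (↑rs : Set FG)) ≤ Fintype.card F * (Fintype.card F + 1) * k := by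
    intro rs hsub k hk hhk
    set φ : FG →* PresentedGroup (↑rs : Set FG) := PresentedGroup.mk _ with hφdef
    have hφ : ∀ r ∈ rels, φ r = 1 := fun r hr => PresentedGroup.one_of_mem (hsub hr)
    have htt : φ gT * φ gT = φ gH ^ m := by
      have := hφ (gT * gT * (gH ^ m)⁻¹) (by simp [rels])
      rw [map_mul, map_mul, map_inv, map_pow] at this
      exact mul_inv_eq_one.mp this
    have hth : φ gT * φ gH * (φ gT)⁻¹ = (φ gH)⁻¹ := by
      have := hφ (gT * gH * gT⁻¹ * gH) (by simp [rels])
      rw [map_mul, map_mul, map_mul, map_inv] at this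
      exact eq_inv_of_mul_eq_one_left this
    have hN : φ gH ^ (Fintype.card F - 1) = 1 := by
      have h1 := conj_t_zpow hth (m : ℤ)
      rw [zpow_natCast, ← htt, _root_.zpow_neg, zpow_natCast, ← htt] at h1
      rw [hm, two_mul, pow_add, ← htt]
      have h2 : φ gT * φ gT = (φ gT * φ gT)⁻¹ := by rw [← h1]; group
      nth_rewrite 1 [h2]
      exact inv_mul_cancel _
    obtain ⟨ψ, hadd, hone, hequiv, hψ⟩ := hpkg φ (fun r hr => hφ r (by simp [rels, hr])) hN
    refine order_bound (u := φ gU) (h := φ gH) (t := φ gT) ?_ hadd hone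
      (pow_ne_zero 2 ω.ne_zero) hequiv hk hhk hth htt {1, (ω : F)} ?_ ?_
    · rw [← PresentedGroup.closure_range_of (↑rs : Set FG)]
      congr 1
      ext z
      simp only [Set.mem_insert_iff, Set.mem_singleton_iff, Set.mem_range, Fin.exists_fin_succ,
        Fin.exists_fin_zero, or_false]
      constructor
      · rintro (rfl | rfl | rfl)
        · exact Or.inl rfl
        · exact Or.inr (Or.inl rfl)
        · exact Or.inr (Or.inr rfl)
      · rintro (rfl | rfl | rfl)
        · exact Or.inl rfl
        · exact Or.inr (Or.inl rfl)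
        · exact Or.inr (Or.inr rfl)
    · intro x hx
      obtain ⟨n, hn⟩ := (mem_powers_iff_mem_zpowers).mpr (hω (Units.mk0 x hx))
      have hn' : (ω : F) ^ n = x := by
        have := congrArg Units.val hn
        simpa using this
      rcases Nat.even_or_odd' n with ⟨i, rfl | rfl⟩
      · exact ⟨i, 1, Or.inl rfl, by rw [mul_one, ← pow_mul, hn']⟩
      · exact ⟨i, (ω : F), Or.inr rfl, by rw [← pow_mul, ← pow_succ, hn']⟩
    · rintro r (rfl | rfl)
      · exact hw1' φ ψ hψ (hφ _ (by simp [rels]))
      · exact hw2' φ ψ hψ (hφ _ (by simp [rels]))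
  constructor
  · refine ⟨rels, hcard.trans (by norm_num), ?_⟩
    have hk : (PresentedGroup.of 1 : PresentedGroup (↑rels : Set FG)) ^ (Fintype.card F - 1) = 1 := by
      set φ : FG →* PresentedGroup (↑rels : Set FG) := PresentedGroup.mk _ with hφdef
      have hφ : ∀ r ∈ rels, φ r = 1 := fun r hr => PresentedGroup.one_of_mem hr
      have htt : φ gT * φ gT = φ gH ^ m := by
        have := hφ (gT * gT * (gH ^ m)⁻¹) (by simp [rels])
        rw [map_mul, map_mul, map_inv, map_pow] at this
        exact mul_inv_eq_one.mp this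
      have hth : φ gT * φ gH * (φ gT)⁻¹ = (φ gH)⁻¹ := by
        have := hφ (gT * gH * gT⁻¹ * gH) (by simp [rels])
        rw [map_mul, map_mul, map_mul, map_inv] at this
        exact eq_inv_of_mul_eq_one_left this
      have h1 := conj_t_zpow hth (m : ℤ)
      rw [zpow_natCast, ← htt, _root_.zpow_neg, zpow_natCast, ← htt] at h1
      have h2 : φ gT * φ gT = (φ gT * φ gT)⁻¹ := by rw [← h1]; group
      change φ gH ^ (Fintype.card F - 1) = 1
      rw [hm, two_mul, pow_add, ← htt]
      nth_rewrite 1 [h2]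
      exact inv_mul_cancel _
    obtain ⟨hfin, hle⟩ := hbound rels subset_rfl _ (by omega) hk
    have hsur : Function.Surjective (PresentedGroup.toGroup
        (f := ![uL (1 : F), dL ω, tL]) (rels := (↑rels : Set FG)) hmodel) := by
      intro x
      obtain ⟨w, hw⟩ : x ∈ (model ω).range := by rw [hrange]; exact Subgroup.mem_top x
      exact ⟨PresentedGroup.mk _ w, hw⟩
    refine ⟨MulEquiv.ofBijective _ ((Nat.bijective_iff_surjective_and_card _).mpr ⟨hsur, ?_⟩)⟩
    refine le_antisymm (hle.trans_eq ?_) (Nat.card_le_card_of_surjective _ hsur)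
    rw [Cfsg.Agent.GL.card_SL2, mul_assoc]
    congr 1
    rw [show Fintype.card F ^ 2 - 1 = Fintype.card F ^ 2 - 1 ^ 2 by norm_num, Nat.sq_sub_sq]
  · refine ⟨insert (gH ^ m) rels, (Finset.card_insert_le _ _).trans (by omega), ?_⟩
    have hk : (PresentedGroup.of 1 : PresentedGroup (↑(insert (gH ^ m) rels) : Set FG)) ^ m = 1 := by
      change PresentedGroup.mk _ (gH ^ m) = 1
      exact PresentedGroup.one_of_mem (by simp)
    obtain ⟨hfin, hle⟩ := hbound _ (Finset.subset_insert _ _) m (by omega) hk
    let π : Matrix.SpecialLinearGroup (Fin 2) F →* Matrix.ProjectiveSpecialLinearGroup (Fin 2) F :=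
      QuotientGroup.mk' _
    have hker : ∀ r ∈ (↑(insert (gH ^ m) rels) : Set FG),
        FreeGroup.lift (fun i => π (![uL (1 : F), dL ω, tL] i)) r = 1 := by
      intro r hr
      have e : FreeGroup.lift (fun i => π (![uL (1 : F), dL ω, tL] i)) = π.comp (model ω) :=
        FreeGroup.ext_hom _ _ fun i => by simp
      rw [e, MonoidHom.comp_apply]
      rcases Finset.mem_insert.mp (Finset.mem_coe.mp hr) with rfl | hr'
      · rw [map_pow (model ω), model_H, ← map_pow, hmω]
        refine (QuotientGroup.eq_one_iff _).mpr (Subgroup.mem_center_iff.mpr fun g => ?_)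
        apply Subtype.ext
        rw [mul_val, mul_val, dL_coe]
        ext i j; fin_cases i <;> fin_cases j <;> simp [Matrix.mul_apply, Fin.sum_univ_two]
      · rw [hmodel r hr', map_one]
    have hsur : Function.Surjective (PresentedGroup.toGroup hker) := by
      intro x
      obtain ⟨y, rfl⟩ := QuotientGroup.mk'_surjective _ x
      obtain ⟨w, hw⟩ : y ∈ (model ω).range := by rw [hrange]; exact Subgroup.mem_top y
      refine ⟨PresentedGroup.mk _ w, ?_⟩
      have e : FreeGroup.lift (fun i => π (![uL (1 : F), dL ω, tL] i)) = π.comp (model ω) :=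
        FreeGroup.ext_hom _ _ fun i => by simp
      change FreeGroup.lift (fun i => π (![uL (1 : F), dL ω, tL] i)) w = π y
      rw [e, MonoidHom.comp_apply, hw]
    refine ⟨MulEquiv.ofBijective _ ((Nat.bijective_iff_surjective_and_card _).mpr ⟨hsur, ?_⟩)⟩
    refine le_antisymm ?_ (Nat.card_le_card_of_surjective _ hsur)
    have h2 := Cfsg.Agent.GL.gcd_mul_card_PSL (F := F) 2 (by norm_num)
    rw [Cfsg.Agent.GL.card_SL2, Nat.gcd_eq_left ⟨m, hm⟩,
      show Fintype.card F ^ 2 - 1 = Fintype.card F ^ 2 - 1 ^ 2 by norm_num, Nat.sq_sub_sq, hm] at h2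
    have : 2 * (Fintype.card F * (Fintype.card F + 1) * m) = Fintype.card F * ((Fintype.card F + 1) * (2 * m)) := by
      ring
    omega

end Cfsg.Agent.SL2Presentation
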