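import Mathlib

set_option autoImplicit false

/-! A group with the relations of the Bruhat decomposition of `SL₂(q)` is small. -/

namespace Cfsg.Agent.SL2Presentation

variable {G : Type*} [Group G] {F : Type*} [Field F]

/-- The element attached to a cell of the Bruhat decomposition. -/
def cell (ψ : F → G) (h t : G) : Option F × F × ℤ → G
  | (none, b, i) => ψ b * h ^ i
  | (some a, b, i) => ψ a * t * ψ b * h ^ i

theorem psi_zero {ψ : F → G} (hadd : ∀ x y, ψ (x + y) = ψ x * ψ y) : ψ 0 = 1 := by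
  have := hadd 0 0
  rw [add_zero] at this
  simpa using this

theorem conj_pow_psi {ψ : F → G} {h : G} {lam : F} (hequiv : ∀ x, h * ψ x * h⁻¹ = ψ (lam * x))
    (n : ℕ) (x : F) : h ^ n * ψ x * (h ^ n)⁻¹ = ψ (lam ^ n * x) := by
  induction n with
  | zero => simp
  | succ n ih =>
    rw [pow_succ' lam, mul_assoc lam, ← hequiv, ← ih, pow_succ']
    group

theorem conj_t_zpow {h t : G} (hth : t * h * t⁻¹ = h⁻¹) (i : ℤ) : t * h ^ i * t⁻¹ = h ^ (-i) := by
  rw [← conj_zpow, hth, inv_zpow, zpow_neg]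

theorem order_bound [Fintype F] {u h t : G}
    (hgen : Subgroup.closure ({u, h, t} : Set G) = ⊤)
    {ψ : F → G} (hadd : ∀ x y, ψ (x + y) = ψ x * ψ y) (hone : ψ 1 = u)
    {lam : F} (hlam : lam ≠ 0) (hequiv : ∀ x, h * ψ x * h⁻¹ = ψ (lam * x))
    {k : ℕ} (hk : 0 < k) (hh : h ^ k = 1) (hth : t * h * t⁻¹ = h⁻¹) {z : ℕ} (htt : t * t = h ^ z)
    (R : Set F) (horbit : ∀ x : F, x ≠ 0 → ∃ (i : ℕ), ∃ r ∈ R, x = lam ^ i * r)
    (hR : ∀ r ∈ R, ∃ a b : F, ∃ i : ℤ, t * ψ r * t = ψ a * t * ψ b * h ^ i) :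
    Finite G ∧ Nat.card G ≤ Fintype.card F * (Fintype.card F + 1) * k := by
  classical
  have h0 := psi_zero hadd
  -- pushing powers of `h` to the right
  have hz : ∀ (i : ℤ) (x : F), ∃ y, h ^ i * ψ x = ψ y * h ^ i := by
    intro i x
    obtain ⟨j, hj⟩ : ∃ j : ℕ, h ^ i = h ^ j := by
      refine ⟨(i % k).toNat, ?_⟩
      rw [← zpow_natCast, Int.toNat_of_nonneg (Int.emod_nonneg i (by omega)),
        Int.emod_def, zpow_sub, zpow_mul, zpow_natCast, hh, one_zpow, inv_one, mul_one]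
    refine ⟨lam ^ j * x, ?_⟩
    rw [hj, ← conj_pow_psi hequiv j x]
    group
  have ht_move : ∀ i : ℤ, t * h ^ i = h ^ (-i) * t := fun i => by
    rw [← conj_t_zpow hth i]; group
  have hbru : ∀ x : F, x ≠ 0 → ∃ a b : F, ∃ i : ℤ, t * ψ x * t = ψ a * t * ψ b * h ^ i := by
    intro x hx
    obtain ⟨n, r, hr, rfl⟩ := horbit x hx
    obtain ⟨a, b, i, hab⟩ := hR r hr
    obtain ⟨a', ha'⟩ := hz (-(n : ℤ)) a
    obtain ⟨b', hb'⟩ := hz (n : ℤ) b
    refine ⟨a', b', (n : ℤ) + i + (n : ℤ), ?_⟩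
    have h1 : ψ (lam ^ n * r) = h ^ (n : ℤ) * ψ r * (h ^ (n : ℤ))⁻¹ := by
      rw [zpow_natCast, conj_pow_psi hequiv]
    have h2 : (h ^ (n : ℤ))⁻¹ * t = t * h ^ (n : ℤ) := by rw [ht_move, zpow_neg]
    calc t * ψ (lam ^ n * r) * t = t * h ^ (n : ℤ) * ψ r * ((h ^ (n : ℤ))⁻¹ * t) := by rw [h1]; group
      _ = h ^ (-(n : ℤ)) * (t * ψ r * t) * h ^ (n : ℤ) := by rw [h2]; nth_rewrite 1 [ht_move]; group
      _ = (h ^ (-(n : ℤ)) * ψ a) * t * ψ b * h ^ i * h ^ (n : ℤ) := by rw [hab]; group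
      _ = ψ a' * (h ^ (-(n : ℤ)) * t) * ψ b * h ^ i * h ^ (n : ℤ) := by rw [ha']; group
      _ = ψ a' * t * (h ^ (n : ℤ) * ψ b) * h ^ i * h ^ (n : ℤ) := by rw [← ht_move]; group
      _ = ψ a' * t * ψ b' * h ^ ((n : ℤ) + i + (n : ℤ)) := by rw [hb', zpow_add, zpow_add]; group
  set S : Set G := Set.range (cell ψ h t) with hS
  have hψS : ∀ (x : F) (s : G), s ∈ S → ψ x * s ∈ S := by
    rintro x _ ⟨⟨_ | a, b, i⟩, rfl⟩
    · exact ⟨(none, x + b, i), by simp [cell, hadd, mul_assoc]⟩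
    · exact ⟨(some (x + a), b, i), by simp [cell, hadd, mul_assoc]⟩
  have hhS : ∀ (j : ℤ) (s : G), s ∈ S → h ^ j * s ∈ S := by
    rintro j _ ⟨⟨_ | a, b, i⟩, rfl⟩
    · obtain ⟨b', hb'⟩ := hz j b
      exact ⟨(none, b', j + i), by simp only [cell]; rw [← mul_assoc, hb', zpow_add, mul_assoc]⟩
    · obtain ⟨a', ha'⟩ := hz j a
      obtain ⟨b', hb'⟩ := hz (-j) b
      refine ⟨(some a', b', -j + i), ?_⟩
      simp only [cell]
      calc ψ a' * t * ψ b' * h ^ (-j + i) = ψ a' * t * (ψ b' * h ^ (-j)) * h ^ i := by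
            rw [zpow_add]; group
        _ = ψ a' * (t * h ^ (-j)) * ψ b * h ^ i := by rw [← hb']; group
        _ = (ψ a' * h ^ j) * t * ψ b * h ^ i := by rw [ht_move, neg_neg]; group
        _ = _ := by rw [← ha']; group
  have htS : ∀ s : G, s ∈ S → t * s ∈ S := by
    rintro _ ⟨⟨_ | a, b, i⟩, rfl⟩
    · exact ⟨(some 0, b, i), by simp [cell, h0, mul_assoc]⟩
    · simp only [cell]
      by_cases ha : a = 0
      · obtain ⟨b', hb'⟩ := hz (z : ℤ) b
        refine ⟨(none, b', (z : ℤ) + i), ?_⟩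
        simp only [cell]
        rw [ha, h0, zpow_add, ← mul_assoc, ← hb', zpow_natCast, ← htt]
        group
      · obtain ⟨a', b', j, hab⟩ := hbru a ha
        obtain ⟨b'', hb''⟩ := hz j b
        refine ⟨(some a', b' + b'', j + i), ?_⟩
        simp only [cell]
        calc ψ a' * t * ψ (b' + b'') * h ^ (j + i) = ψ a' * t * ψ b' * (ψ b'' * h ^ j) * h ^ i := by
              rw [hadd, zpow_add]; group
          _ = (ψ a' * t * ψ b' * h ^ j) * ψ b * h ^ i := by rw [← hb'']; group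
          _ = _ := by rw [← hab]; group
  have hall : ∀ g : G, ∀ s ∈ S, g * s ∈ S ∧ g⁻¹ * s ∈ S := by
    intro g
    have hg : g ∈ Subgroup.closure ({u, h, t} : Set G) := hgen ▸ Subgroup.mem_top g
    induction hg using Subgroup.closure_induction with
    | mem x hx =>
      intro s hs
      simp only [Set.mem_insert_iff, Set.mem_singleton_iff] at hx
      rcases hx with rfl | rfl | rfl
      · refine ⟨hone ▸ hψS 1 s hs, ?_⟩
        have : ψ (-1) * x = 1 := by rw [← hone, ← hadd, neg_add_cancel, h0]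
        rw [← eq_inv_of_mul_eq_one_left this]
        exact hψS _ s hs
      · refine ⟨by simpa using hhS 1 s hs, by simpa using hhS (-1) s hs⟩
      · refine ⟨htS s hs, ?_⟩
        have : x⁻¹ = x * h ^ (-(z : ℤ)) := by
          rw [zpow_neg, zpow_natCast, ← htt]; group
        rw [this, mul_assoc]
        exact htS _ (hhS _ s hs)
    | one => intro s hs; simpa using hs
    | mul x y _ _ ihx ihy =>
      intro s hs
      refine ⟨by rw [mul_assoc]; exact (ihx _ (ihy s hs).1).1, ?_⟩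
      rw [mul_inv_rev, mul_assoc]
      exact (ihy _ (ihx s hs).2).2
    | inv x _ ih =>
      intro s hs
      exact ⟨(ih s hs).2, by rw [inv_inv]; exact (ih s hs).1⟩
  let e : Option F × F × Fin k → G := fun x => cell ψ h t (x.1, x.2.1, (x.2.2 : ℕ))
  have hsurj : Function.Surjective e := by
    intro g
    have h1 : (1 : G) ∈ S := ⟨(none, 0, 0), by simp [cell, h0]⟩
    obtain ⟨⟨o, b, i⟩, hi⟩ := (hall g 1 h1).1
    rw [mul_one] at hi
    have hkz : (k : ℤ) ≠ 0 := by omega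
    refine ⟨(o, b, ⟨(i % k).toNat, by
      have := Int.emod_lt_of_pos i (show (0 : ℤ) < k by omega)
      have := Int.emod_nonneg i hkz
      omega⟩), ?_⟩
    have hpow : h ^ (((i % k).toNat : ℕ) : ℤ) = h ^ i := by
      rw [Int.toNat_of_nonneg (Int.emod_nonneg i hkz), Int.emod_def, zpow_sub, zpow_mul,
        zpow_natCast, hh, one_zpow, inv_one, mul_one]
    rw [← hi]
    cases o <;> simp only [e, cell, hpow]
  have hfin : Finite G := Finite.of_surjective e hsurj
  refine ⟨hfin, (Nat.card_le_card_of_surjective e hsurj).trans_eq ?_⟩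
  rw [Nat.card_prod, Nat.card_prod, Nat.card_fin, Nat.card_eq_fintype_card, Nat.card_eq_fintype_card,
    Fintype.card_option]
  ring

end Cfsg.Agent.SL2Presentation
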