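import Cfsg.Agent.Lib.SL2Presentation.Steinberg

/-!
The Steinberg relations of rank `n - 1` over a finite field: the group is no larger than `SL_n`.
Coset enumeration over the stabiliser `H` of the first basis vector, by induction on `n`.
-/

set_option autoImplicit false

namespace Cfsg.Agent.SL2Presentation

theorem conj_mem_of_closure {G : Type*} [Group G] {s : Set G} {N : Subgroup G} (g : G)
    (h : ∀ x ∈ s, g * x * g⁻¹ ∈ N) {y : G} (hy : y ∈ Subgroup.closure s) : g * y * g⁻¹ ∈ N := by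
  have hle : Subgroup.closure s ≤ N.comap (MulAut.conj g).toMonoidHom := by
    rw [Subgroup.closure_le]
    exact fun x hx => h x hx
  exact hle hy

theorem conj_three {G : Type*} [Group G] (a b c z : G) :
    a * b * c * z * (a * b * c)⁻¹ = a * (b * (c * z * c⁻¹) * b⁻¹) * a⁻¹ := by group

/-- The Steinberg relations. -/
structure Rels (K : Type*) [Field K] (n : ℕ) (G : Type*) [Group G] where
  x : Fin n → Fin n → K → G
  add : ∀ i j, i ≠ j → ∀ t u, x i j (t + u) = x i j t * x i j u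
  comm : ∀ i j k l, i ≠ j → k ≠ l → i ≠ l → j ≠ k → ∀ t u, x i j t * x k l u = x k l u * x i j t
  chain : ∀ i j l, i ≠ j → j ≠ l → i ≠ l → ∀ t u, x i j t * x j l u = x i l (t * u) * x j l u * x i j t

/-- The Steinberg relations, with the rank one relation for each pair of opposite roots. -/
structure StN (K : Type*) [Field K] (n : ℕ) (G : Type*) [Group G] extends Rels K n G where
  rel : ∀ i j, i ≠ j → ∀ t u : K, t ≠ 0 →
    (x i j t * x j i (-t⁻¹) * x i j t) * x i j u * (x i j t * x j i (-t⁻¹) * x i j t)⁻¹ = x j i (-(t⁻¹ ^ 2 * u))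
  gen : Subgroup.closure {g : G | ∃ i j, i ≠ j ∧ ∃ t, g = x i j t} = ⊤

namespace Rels

variable {K : Type*} [Field K] {n : ℕ} {G : Type*} [Group G] (S : Rels K n G) {i j : Fin n}

theorem x_zero {i j : Fin n} (h : i ≠ j) : S.x i j 0 = 1 := psi_zero (S.add i j h)

theorem x_neg {i j : Fin n} (h : i ≠ j) (t : K) : S.x i j (-t) = (S.x i j t)⁻¹ := by
  apply eq_inv_of_mul_eq_one_left
  rw [← S.add i j h, neg_add_cancel, S.x_zero h]

/-- The Weyl elements. -/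
def w (i j : Fin n) (t : K) : G := S.x i j t * S.x j i (-t⁻¹) * S.x i j t

variable {k l : Fin n}

theorem conj_jk (hij : i ≠ j) (hjk : j ≠ k) (hik : i ≠ k) (t u : K) :
    S.x i j t * S.x j k u * (S.x i j t)⁻¹ = S.x i k (t * u) * S.x j k u := by
  rw [S.chain i j k hij hjk hik, mul_inv_cancel_right]

theorem conj_ki (hij : i ≠ j) (hki : k ≠ i) (hkj : k ≠ j) (t u : K) :
    S.x i j t * S.x k i u * (S.x i j t)⁻¹ = S.x k j (-(u * t)) * S.x k i u := by
  rw [S.x_neg hkj, mul_inv_eq_iff_eq_mul, mul_assoc, eq_inv_mul_iff_mul_eq, ← mul_assoc,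
    ← S.chain k i j hki hij hkj]

theorem conj_fix (hij : i ≠ j) (hkl : k ≠ l) (hil : i ≠ l) (hjk : j ≠ k) (t u : K) :
    S.x i j t * S.x k l u * (S.x i j t)⁻¹ = S.x k l u := by
  rw [S.comm i j k l hij hkl hil hjk, mul_inv_cancel_right]

theorem w_ik (hij : i ≠ j) (hik : i ≠ k) (hjk : j ≠ k) {t : K} (ht : t ≠ 0) (u : K) :
    S.w i j t * S.x i k u * (S.w i j t)⁻¹ = S.x j k (-(t⁻¹ * u)) := by
  rw [w, conj_three, S.conj_fix hij hik hik hij.symm, S.conj_jk hij.symm hik hjk, neg_mul,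
    ← conj_mul, S.conj_jk hij hjk hik, S.conj_fix hij hik hik hij.symm, mul_assoc,
    show t * -(t⁻¹ * u) = -u by field_simp, ← mul_assoc, S.x_neg hik, mul_assoc, S.comm j k i k hjk hik hjk hik.symm,
    inv_mul_cancel_left]

theorem w_jk (hij : i ≠ j) (hik : i ≠ k) (hjk : j ≠ k) {t : K} (ht : t ≠ 0) (u : K) :
    S.w i j t * S.x j k u * (S.w i j t)⁻¹ = S.x i k (t * u) := by
  rw [w, conj_three, S.conj_jk hij hjk hik, ← conj_mul (b := S.x j i (-t⁻¹)), S.conj_jk hij.symm hik hjk,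
    S.conj_fix hij.symm hjk hjk hij, show -t⁻¹ * (t * u) = -u by field_simp, S.x_neg hjk,
    mul_assoc ((S.x j k u)⁻¹), S.comm i k j k hik hjk hik hjk.symm, inv_mul_cancel_left,
    S.conj_fix hij hik hik hij.symm]

theorem w_ki (hij : i ≠ j) (hki : k ≠ i) (hkj : k ≠ j) {t : K} (ht : t ≠ 0) (u : K) :
    S.w i j t * S.x k i u * (S.w i j t)⁻¹ = S.x k j (-(t * u)) := by
  rw [w, conj_three, S.conj_ki hij hki hkj, ← conj_mul (b := S.x j i (-t⁻¹)), S.conj_ki hij.symm hkj hki,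
    S.conj_fix hij.symm hki hij.symm hki.symm, show -(-(u * t) * -t⁻¹) = -u by field_simp, S.x_neg hki,
    mul_assoc ((S.x k i u)⁻¹), S.comm k j k i hkj hki hki hkj.symm, inv_mul_cancel_left,
    S.conj_fix hij hkj hij hkj.symm, mul_comm u t]

theorem w_kj (hij : i ≠ j) (hki : k ≠ i) (hkj : k ≠ j) {t : K} (ht : t ≠ 0) (u : K) :
    S.w i j t * S.x k j u * (S.w i j t)⁻¹ = S.x k i (t⁻¹ * u) := by
  rw [w, conj_three, S.conj_fix hij hkj hij hkj.symm, S.conj_ki hij.symm hkj hki,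
    show -(u * -t⁻¹) = t⁻¹ * u by ring, ← conj_mul, S.conj_ki hij hki hkj, S.conj_fix hij hkj hij hkj.symm,
    show -(t⁻¹ * u * t) = -u by field_simp, S.x_neg hkj, mul_assoc ((S.x k j u)⁻¹),
    S.comm k i k j hki hkj hkj hki.symm, inv_mul_cancel_left]

theorem w_fix (hij : i ≠ j) (hkl : k ≠ l) (hki : k ≠ i) (hkj : k ≠ j) (hli : l ≠ i) (hlj : l ≠ j) (t u : K) :
    S.w i j t * S.x k l u * (S.w i j t)⁻¹ = S.x k l u := by
  rw [w, conj_three, S.conj_fix hij hkl hli.symm hkj.symm, S.conj_fix hij.symm hkl hlj.symm hki.symm,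
    S.conj_fix hij hkl hli.symm hkj.symm]

/-- With a third index the rank one relation follows. -/
theorem rel_of_third (hij : i ≠ j) (hki : k ≠ i) (hkj : k ≠ j) (t u : K) (ht : t ≠ 0) :
    S.w i j t * S.x i j u * (S.w i j t)⁻¹ = S.x j i (-(t⁻¹ ^ 2 * u)) := by
  have e : S.x i j u = S.x i k u * S.x k j 1 * (S.x i k u)⁻¹ * (S.x k j 1)⁻¹ := by
    rw [S.chain i k j hki.symm hkj hij, mul_one]; group
  rw [e, show S.w i j t * (S.x i k u * S.x k j 1 * (S.x i k u)⁻¹ * (S.x k j 1)⁻¹) * (S.w i j t)⁻¹ =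
    (S.w i j t * S.x i k u * (S.w i j t)⁻¹) * (S.w i j t * S.x k j 1 * (S.w i j t)⁻¹) *
      (S.w i j t * S.x i k u * (S.w i j t)⁻¹)⁻¹ * (S.w i j t * S.x k j 1 * (S.w i j t)⁻¹)⁻¹ by group,
    S.w_ik hij hki.symm hkj.symm ht, S.w_kj hij hki hkj ht, S.chain j k i hkj.symm hki hij.symm,
    show -(t⁻¹ * u) * (t⁻¹ * 1) = -(t⁻¹ ^ 2 * u) by ring]
  group

end Rels

namespace StN

variable {K : Type*} [Field K] {n : ℕ} {G : Type*} [Group G] (S : StN K n G) {k l : Fin n}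

/-- The rank one group of a pair of roots. -/
def pair (i j : Fin n) : Subgroup G := Subgroup.closure (Set.range (S.x i j) ∪ Set.range (S.x j i))

/-- The rank one relations inside it. -/
def toStein {i j : Fin n} (h : i ≠ j) : Stein K (S.pair i j) where
  x t := ⟨S.x i j t, Subgroup.subset_closure (Or.inl ⟨t, rfl⟩)⟩
  y t := ⟨S.x j i t, Subgroup.subset_closure (Or.inr ⟨t, rfl⟩)⟩
  x_add a b := Subtype.ext (S.add i j h a b)
  y_add a b := Subtype.ext (S.add j i h.symm a b)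
  rel t u ht := Subtype.ext (S.rel i j h t u ht)
  gen := by
    refine eq_top_iff.2 ((Subgroup.closure_closure_coe_preimage
      (k := Set.range (S.x i j) ∪ Set.range (S.x j i))).ge.trans (Subgroup.closure_mono ?_))
    rintro ⟨g, hg⟩ (⟨t, ht⟩ | ⟨t, ht⟩)
    · exact Or.inl ⟨t, Subtype.ext ht⟩
    · exact Or.inr ⟨t, Subtype.ext ht⟩

/-- The torus elements. -/
def h (i j : Fin n) (u : K) : G := S.w i j u * S.w i j (-1)

variable {i j : Fin n}

theorem coe_w (hij : i ≠ j) (t : K) : (((S.toStein hij).w t : S.pair i j) : G) = S.w i j t := rfl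

theorem coe_h (hij : i ≠ j) (t : K) : (((S.toStein hij).h t : S.pair i j) : G) = S.h i j t := rfl

theorem w_neg (hij : i ≠ j) (t : K) : S.w i j (-t) = (S.w i j t)⁻¹ :=
  congrArg Subtype.val ((S.toStein hij).w_neg t)

theorem w_x (hij : i ≠ j) {t : K} (ht : t ≠ 0) (u : K) :
    S.w i j t * S.x i j u * (S.w i j t)⁻¹ = S.x j i (-(t⁻¹ ^ 2 * u)) := S.rel i j hij t u ht

theorem w_y (hij : i ≠ j) {t : K} (ht : t ≠ 0) (v : K) :
    S.w i j t * S.x j i v * (S.w i j t)⁻¹ = S.x i j (-(t ^ 2 * v)) :=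
  congrArg Subtype.val ((S.toStein hij).w_y ht v)

theorem h_mul [Finite K] (hij : i ≠ j) {u v : K} (hu : u ≠ 0) (hv : v ≠ 0) :
    S.h i j (u * v) = S.h i j u * S.h i j v :=
  congrArg Subtype.val ((S.toStein hij).h_mul hu hv)

theorem h_one (hij : i ≠ j) : S.h i j 1 = 1 := congrArg Subtype.val (S.toStein hij).h_one

theorem h_inv [Finite K] (hij : i ≠ j) {u : K} (hu : u ≠ 0) : (S.h i j u)⁻¹ = S.h i j u⁻¹ := by
  refine inv_eq_of_mul_eq_one_right ?_
  rw [← S.h_mul hij hu (inv_ne_zero hu), mul_inv_cancel₀ hu, S.h_one hij]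

theorem w_mul_y [Finite K] (hij : i ≠ j) {t s : K} (ht : t ≠ 0) (hs : s ≠ 0) :
    S.w i j t * S.x j i s = S.x j i (-(t ^ 2 * s)⁻¹) * S.h i j (t * s) * S.x i j s⁻¹ := by
  have hc : -(t ^ 2 * s) ≠ 0 := neg_ne_zero.2 (mul_ne_zero (pow_ne_zero 2 ht) hs)
  have h1 : S.w i j t * S.x j i s = S.x i j (-(t ^ 2 * s)) * S.w i j t := by
    rw [← S.w_y hij ht]; group
  have h2 : S.x i j (-(t ^ 2 * s)) = S.x j i (-(t ^ 2 * s))⁻¹ * S.w i j (-(t ^ 2 * s)) * S.x j i (-(t ^ 2 * s))⁻¹ := by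
    have e : S.w i j (-(t ^ 2 * s)) = S.x j i (-(-(t ^ 2 * s))⁻¹) * S.x i j (-(t ^ 2 * s)) * S.x j i (-(-(t ^ 2 * s))⁻¹) :=
      congrArg Subtype.val ((S.toStein hij).w_eq hc)
    rw [e, S.x_neg hij.symm ((-(t ^ 2 * s))⁻¹)]; group
  have h3 : S.x j i (-(t ^ 2 * s))⁻¹ * S.w i j t = S.w i j t * S.x i j s⁻¹ := by
    have e : S.x j i (-(t ^ 2 * s))⁻¹ = S.w i j t * S.x i j s⁻¹ * (S.w i j t)⁻¹ := by
      rw [S.w_x hij ht]; congr 1; field_simp
    rw [e]; group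
  have h4 : S.w i j (-(t ^ 2 * s)) * S.w i j t = S.h i j (t * s) := by
    have hts : t * s ≠ 0 := mul_ne_zero ht hs
    have ht' : -t ≠ 0 := neg_ne_zero.2 ht
    have e1 : S.h i j (t * s) * S.h i j (-t) = S.h i j (-(t ^ 2 * s)) := by
      rw [← S.h_mul hij hts ht']; congr 1; ring
    rw [eq_mul_inv_of_mul_eq e1]
    simp only [h, S.w_neg hij]
    group
  rw [h1, h2, mul_assoc, h3, ← mul_assoc, mul_assoc (S.x j i _), h4,
    show (-(t ^ 2 * s))⁻¹ = -(t ^ 2 * s)⁻¹ from inv_neg]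

theorem w_conj_gen (hij : i ≠ j) {t : K} (ht : t ≠ 0) (hkl : k ≠ l) (u : K) :
    ∃ s, S.w i j t * S.x k l u * (S.w i j t)⁻¹ = S.x (Equiv.swap i j k) (Equiv.swap i j l) s := by
  rcases eq_or_ne k i with rfl | hki
  · rw [Equiv.swap_apply_left]
    rcases eq_or_ne l j with rfl | hlj
    · rw [Equiv.swap_apply_right]; exact ⟨_, S.w_x hij ht u⟩
    · rw [Equiv.swap_apply_of_ne_of_ne hkl.symm hlj]; exact ⟨_, S.w_ik hij hkl hlj.symm ht u⟩
  rcases eq_or_ne k j with rfl | hkj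
  · rw [Equiv.swap_apply_right]
    rcases eq_or_ne l i with rfl | hli
    · rw [Equiv.swap_apply_left]; exact ⟨_, S.w_y hij ht u⟩
    · rw [Equiv.swap_apply_of_ne_of_ne hli hkl.symm]; exact ⟨_, S.w_jk hij hli.symm hkl ht u⟩
  rw [Equiv.swap_apply_of_ne_of_ne hki hkj]
  rcases eq_or_ne l i with rfl | hli
  · rw [Equiv.swap_apply_left]; exact ⟨_, S.w_ki hij hki hkj ht u⟩
  rcases eq_or_ne l j with rfl | hlj
  · rw [Equiv.swap_apply_right]; exact ⟨_, S.w_kj hij hki hkj ht u⟩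
  rw [Equiv.swap_apply_of_ne_of_ne hli hlj]; exact ⟨_, S.w_fix hij hkl hki hkj hli hlj t u⟩

theorem h_conj (hij : i ≠ j) {c : K} (hc : c ≠ 0) (hkl : k ≠ l) (u : K) :
    ∃ s, S.h i j c * S.x k l u * (S.h i j c)⁻¹ = S.x k l s := by
  obtain ⟨s1, h1⟩ := S.w_conj_gen hij (t := -1) (by simp) hkl u
  obtain ⟨s2, h2⟩ := S.w_conj_gen hij hc (k := Equiv.swap i j k) (l := Equiv.swap i j l)
    (fun e => hkl ((Equiv.swap i j).injective e)) s1
  refine ⟨s2, ?_⟩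
  rw [h, show S.w i j c * S.w i j (-1) * S.x k l u * (S.w i j c * S.w i j (-1))⁻¹ =
    S.w i j c * (S.w i j (-1) * S.x k l u * (S.w i j (-1))⁻¹) * (S.w i j c)⁻¹ by group, h1, h2,
    Equiv.swap_apply_self, Equiv.swap_apply_self]

/-! ### Coset enumeration -/

variable {m : ℕ} (T : StN K (m + 2) G)

/-- Products in the first column with support in `A`. -/
def col (A : Set (Fin (m + 1))) : Subgroup G :=
  Subgroup.closure {g : G | ∃ i ∈ A, ∃ s, g = T.x i.succ 0 s}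

/-- The stabiliser of the first vector. -/
def stab : Subgroup G := Subgroup.closure {g : G | ∃ p q, p ≠ q ∧ q ≠ 0 ∧ ∃ s, g = T.x p q s}

/-- The column of `k`. -/
def colAt (k : Fin (m + 1)) : Subgroup G := Subgroup.closure {g : G | ∃ p, p ≠ k.succ ∧ ∃ s, g = T.x p k.succ s}

theorem colAt_le (k : Fin (m + 1)) : T.colAt k ≤ T.stab := by
  refine Subgroup.closure_mono ?_
  rintro _ ⟨p, hp, s, rfl⟩
  exact ⟨p, k.succ, hp, Fin.succ_ne_zero k, s, rfl⟩

theorem x_mem_col {A : Set (Fin (m + 1))} {i : Fin (m + 1)} (hi : i ∈ A) (s : K) : T.x i.succ 0 s ∈ T.col A :=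
  Subgroup.subset_closure ⟨i, hi, s, rfl⟩

theorem col_mono {A B : Set (Fin (m + 1))} (h : A ⊆ B) : T.col A ≤ T.col B :=
  Subgroup.closure_mono fun _ ⟨i, hi, hs⟩ => ⟨i, h hi, hs⟩

theorem col_comm (l : Fin (m + 1)) (s : K) {A : Set (Fin (m + 1))} {y : G} (hy : y ∈ T.col A) :
    Commute (T.x l.succ 0 s) y := by
  have hle : T.col A ≤ Subgroup.centralizer {T.x l.succ 0 s} := by
    unfold col
    rw [Subgroup.closure_le]
    rintro _ ⟨i, -, u, rfl⟩
    rw [SetLike.mem_coe, Subgroup.mem_centralizer_singleton_iff]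
    rcases eq_or_ne l i with rfl | hli
    · rw [← T.add _ _ (Fin.succ_ne_zero l), ← T.add _ _ (Fin.succ_ne_zero l)]
      exact congrArg _ (add_comm _ _)
    · exact (T.comm _ _ _ _ (Fin.succ_ne_zero l) (Fin.succ_ne_zero i) (Fin.succ_ne_zero l)
        (Fin.succ_ne_zero i).symm s u).symm
  exact (Subgroup.mem_centralizer_singleton_iff.1 (hle hy)).symm

theorem col_insert {A : Set (Fin (m + 1))} (l : Fin (m + 1)) {g : G} (hg : g ∈ T.col (insert l A)) :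
    ∃ s, ∃ y ∈ T.col A, g = T.x l.succ 0 s * y := by
  unfold col at hg
  induction hg using Subgroup.closure_induction with
  | mem x hx =>
    obtain ⟨i, hi, s, rfl⟩ := hx
    rcases hi with rfl | hi
    · exact ⟨s, 1, Subgroup.one_mem _, (mul_one _).symm⟩
    · exact ⟨0, _, T.x_mem_col hi s, by rw [T.x_zero (Fin.succ_ne_zero l), one_mul]⟩
  | one => exact ⟨0, 1, Subgroup.one_mem _, by rw [T.x_zero (Fin.succ_ne_zero l), one_mul]⟩
  | mul x y _ _ ihx ihy =>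
    obtain ⟨s, a, ha, rfl⟩ := ihx
    obtain ⟨s', b, hb, rfl⟩ := ihy
    refine ⟨s + s', a * b, Subgroup.mul_mem _ ha hb, ?_⟩
    rw [T.add _ _ (Fin.succ_ne_zero l), mul_assoc (T.x l.succ 0 s) a, ← mul_assoc a, ← (T.col_comm l s' ha).eq]
    group
  | inv x _ ih =>
    obtain ⟨s, a, ha, rfl⟩ := ih
    refine ⟨-s, a⁻¹, Subgroup.inv_mem _ ha, ?_⟩
    rw [T.x_neg (Fin.succ_ne_zero l), mul_inv_rev]
    exact ((T.col_comm l s ha).inv_inv).eq.symm

theorem col_normalises {k : Fin (m + 1)} {A : Set (Fin (m + 1))} (hA : k ∉ A) {y : G} (hy : y ∈ T.col A) :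
    ∀ z ∈ T.colAt k, y * z * y⁻¹ ∈ T.colAt k ∧ y⁻¹ * z * y ∈ T.colAt k := by
  unfold col at hy
  induction hy using Subgroup.closure_induction with
  | mem x hx =>
    obtain ⟨i, hi, s, rfl⟩ := hx
    have hik : i.succ ≠ k.succ := fun e => hA (Fin.succ_inj.1 e ▸ hi)
    have key : ∀ (r : K), ∀ z ∈ T.colAt k, T.x i.succ 0 r * z * (T.x i.succ 0 r)⁻¹ ∈ T.colAt k := by
      intro r z hz
      refine conj_mem_of_closure _ ?_ hz
      rintro _ ⟨p, hp, u, rfl⟩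
      rcases eq_or_ne p 0 with rfl | hp0
      · rw [T.conj_jk (Fin.succ_ne_zero i) hp hik]
        exact Subgroup.mul_mem _ (Subgroup.subset_closure ⟨_, hik, _, rfl⟩) (Subgroup.subset_closure ⟨_, hp, _, rfl⟩)
      · rw [T.conj_fix (Fin.succ_ne_zero i) hp hik hp0.symm]
        exact Subgroup.subset_closure ⟨_, hp, _, rfl⟩
    intro z hz
    refine ⟨key s z hz, ?_⟩
    have := key (-s) z hz
    rwa [T.x_neg (Fin.succ_ne_zero i), inv_inv] at this
  | one => intro z hz; simp [hz]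
  | mul x y _ _ ihx ihy =>
    intro z hz
    refine ⟨?_, ?_⟩
    · rw [show x * y * z * (x * y)⁻¹ = x * (y * z * y⁻¹) * x⁻¹ by group]
      exact (ihx _ (ihy z hz).1).1
    · rw [show (x * y)⁻¹ * z * (x * y) = y⁻¹ * (x⁻¹ * z * x) * y by group]
      exact (ihy _ (ihx z hz).2).2
  | inv x _ ih => intro z hz; exact ⟨by rw [inv_inv]; exact (ih z hz).2, by rw [inv_inv]; exact (ih z hz).1⟩

theorem h_conj_stab (hij : i ≠ j) {c : K} (hc : c ≠ 0) (U : StN K n G) {N : Subgroup G} {s : Set G}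
    (hN : N = Subgroup.closure s) (hs : ∀ g ∈ s, ∃ p q, p ≠ q ∧ (∃ u, g = U.x p q u) ∧ ∀ v, U.x p q v ∈ N)
    {z : G} (hz : z ∈ N) : U.h i j c * z * (U.h i j c)⁻¹ ∈ N := by
  refine conj_mem_of_closure _ (fun g hg => ?_) (hN ▸ hz)
  obtain ⟨p, q, hpq, ⟨u, rfl⟩, hmem⟩ := hs g hg
  obtain ⟨v, hv⟩ := U.h_conj hij hc hpq u
  rw [hv]; exact hmem v

theorem h_stab {a b : Fin (m + 2)} (hab : a ≠ b) {c : K} (hc : c ≠ 0) {z : G} (hz : z ∈ T.stab) :
    T.h a b c * z * (T.h a b c)⁻¹ ∈ T.stab :=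
  h_conj_stab hab hc T (s := {g : G | ∃ p q, p ≠ q ∧ q ≠ 0 ∧ ∃ s, g = T.x p q s}) rfl (fun _ ⟨p, q, hpq, hq, u, hu⟩ =>
    ⟨p, q, hpq, ⟨u, hu⟩, fun v => Subgroup.subset_closure ⟨p, q, hpq, hq, v, rfl⟩⟩) hz

theorem h_col {a b : Fin (m + 2)} (hab : a ≠ b) {c : K} (hc : c ≠ 0) {A : Set (Fin (m + 1))} {z : G}
    (hz : z ∈ T.col A) : T.h a b c * z * (T.h a b c)⁻¹ ∈ T.col A :=
  h_conj_stab hab hc T (s := {g : G | ∃ i ∈ A, ∃ s, g = T.x i.succ 0 s}) rfl (fun _ ⟨p, hp, u, hu⟩ =>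
    ⟨p.succ, 0, Fin.succ_ne_zero p, ⟨u, hu⟩, fun v => T.x_mem_col hp v⟩) hz

/-- The torus element moving the first vector. -/
def hh (c : K) : G := T.h 0 (0 : Fin (m + 1)).succ c

theorem hh_stab [Finite K] {c : K} (hc : c ≠ 0) {z : G} (hz : z ∈ T.stab) : (T.hh c)⁻¹ * z * T.hh c ∈ T.stab := by
  have h0 : (0 : Fin (m + 2)) ≠ (0 : Fin (m + 1)).succ := (Fin.succ_ne_zero _).symm
  have := T.h_stab h0 (inv_ne_zero hc) hz
  rwa [← T.h_inv h0 hc, inv_inv] at this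

theorem x_mem_stab {p q : Fin (m + 2)} (hpq : p ≠ q) (hq : q ≠ 0) (s : K) : T.x p q s ∈ T.stab :=
  Subgroup.subset_closure ⟨p, q, hpq, hq, s, rfl⟩

theorem w_mem_stab {p q : Fin (m + 2)} (hpq : p ≠ q) (hp : p ≠ 0) (hq : q ≠ 0) (t : K) : T.w p q t ∈ T.stab :=
  Subgroup.mul_mem _ (Subgroup.mul_mem _ (T.x_mem_stab hpq hq t) (T.x_mem_stab hpq.symm hp _)) (T.x_mem_stab hpq hq t)

/-- `h₀ₖ` agrees with `h₀₁` modulo the stabiliser. -/
theorem hk_eq [Finite K] (k : Fin (m + 1)) {c : K} (hc : c ≠ 0) :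
    ∃ η ∈ T.stab, T.h 0 k.succ c = T.hh c * η := by
  rcases eq_or_ne k 0 with rfl | hk
  · exact ⟨1, Subgroup.one_mem _, (mul_one _).symm⟩
  set o : Fin (m + 2) := (0 : Fin (m + 1)).succ
  set κ : Fin (m + 2) := k.succ
  have hoκ : o ≠ κ := fun e => hk (Fin.succ_inj.1 e).symm
  have h0o : (0 : Fin (m + 2)) ≠ o := (Fin.succ_ne_zero _).symm
  have h0κ : (0 : Fin (m + 2)) ≠ κ := (Fin.succ_ne_zero _).symm
  set W := T.w o κ 1
  have hx : ∀ u, W * T.x 0 o u * W⁻¹ = T.x 0 κ (-u) := fun u => by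
    rw [T.w_ki hoκ h0o h0κ one_ne_zero, one_mul]
  have hy : ∀ u, W * T.x o 0 u * W⁻¹ = T.x κ 0 (-u) := fun u => by
    rw [T.w_ik hoκ h0o.symm h0κ.symm one_ne_zero, inv_one, one_mul]
  have hw : ∀ t, W * T.w 0 o t * W⁻¹ = T.w 0 κ (-t) := fun t => by
    rw [show W * T.w 0 o t * W⁻¹ = (W * T.x 0 o t * W⁻¹) * (W * T.x o 0 (-t⁻¹) * W⁻¹) * (W * T.x 0 o t * W⁻¹) by
      rw [show T.w 0 o t = T.x 0 o t * T.x o 0 (-t⁻¹) * T.x 0 o t from rfl]; group, hx, hy, Rels.w, inv_neg]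
  have he : W * T.hh c * W⁻¹ = T.h 0 κ c := by
    rw [show W * T.hh c * W⁻¹ = (W * T.w 0 o c * W⁻¹) * (W * T.w 0 o (-1) * W⁻¹) by
      rw [show T.hh c = T.w 0 o c * T.w 0 o (-1) from rfl]; group, hw, hw, neg_neg]
    have hm : T.h 0 κ c * T.h 0 κ (-1) = T.h 0 κ (-c) := by
      rw [← T.h_mul h0κ hc (by simp), mul_neg_one]
    rw [eq_mul_inv_of_mul_eq hm]
    simp only [h, T.w_neg h0κ]
    group
  refine ⟨(T.hh c)⁻¹ * W * T.hh c * W⁻¹, Subgroup.mul_mem _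
    (T.hh_stab hc (T.w_mem_stab hoκ h0o.symm h0κ.symm 1)) (Subgroup.inv_mem _ (T.w_mem_stab hoκ h0o.symm h0κ.symm 1)), ?_⟩
  rw [← he]; group

/-- The big cell. -/
def CellA (g : G) : Prop :=
  ∃ y ∈ T.col Set.univ, ∃ a : K, a ≠ 0 ∧ ∃ η ∈ T.stab, g = y * T.hh a * η

/-- The small cells. -/
def CellB (k : Fin (m + 1)) (g : G) : Prop :=
  ∃ y ∈ T.col {i | k < i}, ∃ a : K, a ≠ 0 ∧ ∃ η ∈ T.stab, g = T.w 0 k.succ 1 * (y * T.hh a * η)

/-- The union of the cells. -/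
def Good (g : G) : Prop := T.CellA g ∨ ∃ k, T.CellB k g

theorem torus_absorb [Finite K] (k : Fin (m + 1)) {c a : K} (hc : c ≠ 0) (ha : a ≠ 0) {z : G} (hz : z ∈ T.stab) :
    ∃ η ∈ T.stab, T.h 0 k.succ c * z * T.hh a = T.hh (c * a) * η := by
  obtain ⟨η, hη, e⟩ := T.hk_eq k hc
  refine ⟨(T.hh a)⁻¹ * (η * z) * T.hh a, T.hh_stab ha (Subgroup.mul_mem _ hη hz), ?_⟩
  rw [e, show T.hh (c * a) = T.hh c * T.hh a from T.h_mul (Fin.succ_ne_zero _).symm hc ha]
  group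

theorem w_mul_cell [Finite K] (k : Fin (m + 1)) {t s a : K} (ht : t ≠ 0) (hs : s ≠ 0) (ha : a ≠ 0)
    {A : Set (Fin (m + 1))} (hA : k ∉ A) {y η : G} (hy : y ∈ T.col A) (hη : η ∈ T.stab) :
    ∃ d, ∃ y' ∈ T.col A, ∃ a', a' ≠ 0 ∧ ∃ η' ∈ T.stab,
      T.w 0 k.succ t * (T.x k.succ 0 s * y * T.hh a * η) = T.x k.succ 0 d * y' * T.hh a' * η' := by
  have h0k : (0 : Fin (m + 2)) ≠ k.succ := (Fin.succ_ne_zero _).symm
  have hts := mul_ne_zero ht hs
  have hz : y⁻¹ * T.x 0 k.succ s⁻¹ * y ∈ T.stab :=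
    T.colAt_le k (T.col_normalises hA hy _ (Subgroup.subset_closure ⟨0, h0k, _, rfl⟩)).2
  obtain ⟨η', hη', e⟩ := T.torus_absorb k hts ha hz
  refine ⟨-(t ^ 2 * s)⁻¹, _, T.h_col h0k hts hy, t * s * a, mul_ne_zero hts ha, η' * η, Subgroup.mul_mem _ hη' hη, ?_⟩
  rw [mul_assoc _ (T.hh (t * s * a)), ← mul_assoc (T.hh (t * s * a)), ← e, ← mul_assoc, ← mul_assoc, ← mul_assoc,
    T.w_mul_y h0k ht hs]
  group

theorem col_insert_cellA {A : Set (Fin (m + 1))} {k : Fin (m + 1)} {d a : K} (ha : a ≠ 0) {y η : G}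
    (hy : y ∈ T.col A) (hη : η ∈ T.stab) : T.CellA (T.x k.succ 0 d * y * T.hh a * η) :=
  ⟨_, Subgroup.mul_mem _ (T.x_mem_col (Set.mem_univ k) d) (T.col_mono (Set.subset_univ A) hy), a, ha, η, hη, rfl⟩

theorem w_to_one [Finite K] (k : Fin (m + 1)) {t a : K} (ht : t ≠ 0) (ha : a ≠ 0) {A : Set (Fin (m + 1))} {y η : G}
    (hy : y ∈ T.col A) (hη : η ∈ T.stab) :
    ∃ y' ∈ T.col A, ∃ a', a' ≠ 0 ∧ ∃ η' ∈ T.stab,
      T.w 0 k.succ t * (y * T.hh a * η) = T.w 0 k.succ 1 * (y' * T.hh a' * η') := by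
  have h0k : (0 : Fin (m + 2)) ≠ k.succ := (Fin.succ_ne_zero _).symm
  have ht' := inv_ne_zero ht
  obtain ⟨η', hη', e⟩ := T.torus_absorb k ht' ha (Subgroup.one_mem _)
  have hT : T.w 0 k.succ t = T.w 0 k.succ 1 * T.h 0 k.succ t⁻¹ := by
    have hT' : T.w 0 k.succ 1 * T.h 0 k.succ t⁻¹ * (T.w 0 k.succ 1)⁻¹ = T.h 0 k.succ t⁻¹⁻¹ :=
      congrArg Subtype.val ((T.toStein h0k).T_h ht')
    rw [← mul_inv_eq_iff_eq_mul.1 hT'.symm.symm |>.symm, inv_inv, h, T.w_neg h0k, inv_mul_cancel_right]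
  refine ⟨_, T.h_col h0k ht' hy, t⁻¹ * a, mul_ne_zero ht' ha, η' * η, Subgroup.mul_mem _ hη' hη, ?_⟩
  rw [hT, mul_assoc _ (T.hh (t⁻¹ * a)), ← mul_assoc (T.hh (t⁻¹ * a)), ← e]
  group

theorem w_swap (k l : Fin (m + 1)) (hkl : k ≠ l) (t : K) :
    T.w 0 l.succ t * T.w 0 k.succ 1 = T.w 0 k.succ 1 * T.w k.succ l.succ t := by
  have h0k : (0 : Fin (m + 2)) ≠ k.succ := (Fin.succ_ne_zero _).symm
  have h0l : (0 : Fin (m + 2)) ≠ l.succ := (Fin.succ_ne_zero _).symm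
  have hkl' : k.succ ≠ l.succ := fun e => hkl (Fin.succ_inj.1 e)
  set V := T.w 0 k.succ (-1)
  have hV : T.w 0 k.succ 1 = V⁻¹ := by rw [← T.w_neg h0k, neg_neg]
  have hx : ∀ u, V * T.x 0 l.succ u * V⁻¹ = T.x k.succ l.succ u := fun u => by
    rw [T.w_ik h0k h0l hkl' (by simp)]; congr 1; field_simp
  have hy : ∀ u, V * T.x l.succ 0 u * V⁻¹ = T.x l.succ k.succ u := fun u => by
    rw [T.w_ki h0k h0l.symm hkl'.symm (by simp)]; congr 1; ring
  have e : T.w k.succ l.succ t = V * T.w 0 l.succ t * V⁻¹ := by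
    rw [show T.w k.succ l.succ t = T.x k.succ l.succ t * T.x l.succ k.succ (-t⁻¹) * T.x k.succ l.succ t from rfl,
      ← hx t, ← hy]
    simp only [Rels.w]
    group
  rw [e, hV]
  group

theorem low_cell [Finite K] (k : Fin (m + 1)) : ∀ d l : ℕ, l + d = (k : ℕ) + 1 → ∀ {y η : G} {a : K}, a ≠ 0 →
    y ∈ T.col {i | i ≠ k ∧ l ≤ (i : ℕ)} → η ∈ T.stab → T.Good (T.w 0 k.succ 1 * (y * T.hh a * η)) := by
  intro d
  induction d with
  | zero =>
    intro l hl y η a ha hy hη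
    refine Or.inr ⟨k, y, T.col_mono (fun i hi => ?_) hy, a, ha, η, hη, rfl⟩
    exact Fin.lt_def.2 (by have := hi.2; omega)
  | succ d ih =>
    intro l hl y η a ha hy hη
    by_cases hlk : l = (k : ℕ)
    · refine ih (l + 1) (by omega) ha (T.col_mono (fun i hi => ?_) hy) hη
      exact ⟨hi.1, by have := hi.2; have := Fin.val_ne_of_ne hi.1; omega⟩
    set L : Fin (m + 1) := ⟨l, by omega⟩
    set A : Set (Fin (m + 1)) := {i | i ≠ k ∧ l + 1 ≤ (i : ℕ)}
    have hsub : {i : Fin (m + 1) | i ≠ k ∧ l ≤ (i : ℕ)} ⊆ insert L A := by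
      intro i hi
      rcases eq_or_ne (i : ℕ) l with e | e
      · exact Or.inl (Fin.ext e)
      · exact Or.inr ⟨hi.1, by have := hi.2; omega⟩
    obtain ⟨s, y', hy', rfl⟩ := T.col_insert L (T.col_mono hsub hy)
    by_cases hs : s = 0
    · subst hs
      rw [T.x_zero (Fin.succ_ne_zero L), one_mul]
      exact ih (l + 1) (by omega) ha hy' hη
    have hkL : k ≠ L := fun e => hlk (by rw [e])
    have h0k : (0 : Fin (m + 2)) ≠ k.succ := (Fin.succ_ne_zero _).symm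
    have h0L : (0 : Fin (m + 2)) ≠ L.succ := (Fin.succ_ne_zero _).symm
    have hkL' : k.succ ≠ L.succ := fun e => hkL (Fin.succ_inj.1 e)
    set w' := T.w k.succ L.succ (-1) with hw'def
    have hw'mem : w' ∈ T.stab := T.w_mem_stab hkL' h0k.symm h0L.symm _
    have hw'x : w' * T.x L.succ 0 s * w'⁻¹ = T.x k.succ 0 (-s) := by
      rw [T.w_jk hkL' h0k.symm h0L.symm (by simp), neg_one_mul]
    have hw'y : w' * y' * w'⁻¹ = y' := by
      have : y' ∈ Subgroup.centralizer {w'} := by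
        refine (?_ : T.col A ≤ _) hy'
        unfold col
        rw [Subgroup.closure_le]
        rintro _ ⟨i, hi, u, rfl⟩
        rw [SetLike.mem_coe, Subgroup.mem_centralizer_singleton_iff]
        have hiL : i ≠ L := fun e => by have := hi.2; rw [e] at this; simp [L] at this
        exact (mul_inv_eq_iff_eq_mul.1 (T.w_fix hkL' (Fin.succ_ne_zero i) (fun e => hi.1 (Fin.succ_inj.1 e))
          (fun e => hiL (Fin.succ_inj.1 e)) h0k h0L _ u)).symm
      rw [← Subgroup.mem_centralizer_singleton_iff.1 this, mul_inv_cancel_right]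
    have hkA : k ∉ A := fun h => h.1 rfl
    obtain ⟨e, y'', hy'', a', ha', η'', hη'', heq⟩ := T.w_mul_cell k one_ne_zero (neg_ne_zero.2 hs) ha hkA hy'
      (Subgroup.mul_mem _ (T.hh_stab ha hw'mem) hη)
    refine Or.inr ⟨L, T.x k.succ 0 e * y'', Subgroup.mul_mem _ (T.x_mem_col ?_ e) (T.col_mono (fun i hi => ?_) hy''),
      a', ha', η'', hη'', ?_⟩
    · exact Fin.lt_def.2 (show l < (k : ℕ) by omega)
    · exact Fin.lt_def.2 (show l < (i : ℕ) by have := hi.2; omega)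
    · rw [show T.w 0 k.succ 1 * (T.x L.succ 0 s * y' * T.hh a * η) = T.w 0 L.succ 1 * (T.w 0 L.succ (-1) * T.w 0 k.succ 1) *
        (T.x L.succ 0 s * y' * T.hh a * η) by rw [T.w_neg h0L]; group, T.w_swap k L hkL, ← hw'def, ← heq,
        ← hw'x]
      nth_rewrite 2 [← hw'y]
      group

theorem low [Finite K] (k : Fin (m + 1)) {t a : K} (ht : t ≠ 0) (ha : a ≠ 0) {y η : G}
    (hy : y ∈ T.col {i | i ≠ k}) (hη : η ∈ T.stab) : T.Good (T.w 0 k.succ t * (y * T.hh a * η)) := by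
  obtain ⟨y', hy', a', ha', η', hη', e⟩ := T.w_to_one k ht ha hy hη
  rw [e]
  exact T.low_cell k ((k : ℕ) + 1) 0 (by omega) ha' (T.col_mono (fun i (hi : i ≠ k) => (show i ≠ k ∧ 0 ≤ (i : ℕ) from ⟨hi, Nat.zero_le _⟩)) hy') hη'

theorem good_x [Finite K] (i : Fin (m + 1)) (t : K) {g : G} (hg : T.Good g) : T.Good (T.x i.succ 0 t * g) := by
  rcases hg with ⟨y, hy, a, ha, η, hη, rfl⟩ | ⟨k, y, hy, a, ha, η, hη, rfl⟩
  · exact Or.inl ⟨_, Subgroup.mul_mem _ (T.x_mem_col (Set.mem_univ i) t) hy, a, ha, η, hη, by group⟩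
  · have h0k : (0 : Fin (m + 2)) ≠ k.succ := (Fin.succ_ne_zero _).symm
    have hV : T.w 0 k.succ 1 = (T.w 0 k.succ (-1))⁻¹ := by rw [← T.w_neg h0k, neg_neg]
    set z := T.w 0 k.succ (-1) * T.x i.succ 0 t * (T.w 0 k.succ (-1))⁻¹
    have hz : z ∈ T.colAt k := by
      obtain ⟨s, hs⟩ := T.w_conj_gen h0k (t := -1) (by simp) (Fin.succ_ne_zero i) t
      rw [show z = _ from hs, Equiv.swap_apply_left]
      refine Subgroup.subset_closure ⟨_, ?_, s, rfl⟩
      rcases eq_or_ne i k with rfl | hik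
      · rw [Equiv.swap_apply_right]; exact h0k
      · rw [Equiv.swap_apply_of_ne_of_ne (Fin.succ_ne_zero i) fun e => hik (Fin.succ_inj.1 e)]
        exact fun e => hik (Fin.succ_inj.1 e)
    have hz' := T.colAt_le k (T.col_normalises (k := k) (fun h : k < k => lt_irrefl k h) hy z hz).2
    refine Or.inr ⟨k, y, hy, a, ha, _, Subgroup.mul_mem _ (T.hh_stab ha hz') hη, ?_⟩
    rw [show z = T.w 0 k.succ (-1) * T.x i.succ 0 t * (T.w 0 k.succ (-1))⁻¹ from rfl, hV]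
    group

theorem good_w [Finite K] (j : Fin (m + 1)) {t : K} (ht : t ≠ 0) {g : G} (hg : T.Good g) :
    T.Good (T.w 0 j.succ t * g) := by
  have key : ∀ (k : Fin (m + 1)) {A : Set (Fin (m + 1))}, k ∉ A → ∀ {t s a : K} {y η : G}, t ≠ 0 → a ≠ 0 →
      y ∈ T.col A → η ∈ T.stab → T.Good (T.w 0 k.succ t * (T.x k.succ 0 s * y * T.hh a * η)) := by
    intro k A hA t s a y η ht ha hy hη
    by_cases hs : s = 0
    · subst hs
      rw [T.x_zero (Fin.succ_ne_zero k), one_mul]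
      exact T.low k ht ha (T.col_mono (fun i hi (e : i = k) => hA (e ▸ hi)) hy) hη
    · obtain ⟨d, y', hy', a', ha', η', hη', e⟩ := T.w_mul_cell k ht hs ha hA hy hη
      rw [e]
      exact Or.inl (T.col_insert_cellA ha' hy' hη')
  have h0j : (0 : Fin (m + 2)) ≠ j.succ := (Fin.succ_ne_zero _).symm
  rcases hg with ⟨y, hy, a, ha, η, hη, rfl⟩ | ⟨k, y, hy, a, ha, η, hη, rfl⟩
  · obtain ⟨s, y', hy', rfl⟩ := T.col_insert (A := {i | i ≠ j}) j (T.col_mono (fun i _ => by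
      rcases eq_or_ne i j with e | e
      · exact Or.inl e
      · exact Or.inr e) hy)
    exact key j (fun h : j ≠ j => h rfl) ht ha hy' hη
  · have h0k : (0 : Fin (m + 2)) ≠ k.succ := (Fin.succ_ne_zero _).symm
    rcases eq_or_ne j k with rfl | hjk
    · have e : T.w 0 j.succ t * T.w 0 j.succ 1 = T.h 0 j.succ (-t) := by
        have hm : T.h 0 j.succ (-t) * T.h 0 j.succ (-1) = T.h 0 j.succ t := by
          rw [← T.h_mul h0j (neg_ne_zero.2 ht) (by simp), neg_mul_neg, mul_one]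
        rw [eq_mul_inv_of_mul_eq hm]
        simp only [h, T.w_neg h0j]
        group
      obtain ⟨η', hη', e'⟩ := T.torus_absorb j (neg_ne_zero.2 ht) ha (Subgroup.one_mem _)
      refine Or.inl ⟨_, T.col_mono (Set.subset_univ _) (T.h_col h0j (neg_ne_zero.2 ht) hy), -t * a,
        mul_ne_zero (neg_ne_zero.2 ht) ha, η' * η, Subgroup.mul_mem _ hη' hη, ?_⟩
      rw [← mul_assoc, e, mul_assoc _ (T.hh (-t * a)), ← mul_assoc (T.hh (-t * a)), ← e']
      group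
    have hkj : k.succ ≠ j.succ := fun e => hjk (Fin.succ_inj.1 e).symm
    set w' := T.w k.succ j.succ t with hw'def
    have hw'mem : w' ∈ T.stab := T.w_mem_stab hkj h0k.symm h0j.symm _
    obtain ⟨s, y', hy', rfl⟩ := T.col_insert (A := {i | i ≠ k ∧ i ≠ j}) j (T.col_mono (fun i (hi : k < i) => by
      rcases eq_or_ne i j with e | e
      · exact Or.inl e
      · exact Or.inr ⟨hi.ne', e⟩) hy)
    have hw'x : w' * T.x j.succ 0 s * w'⁻¹ = T.x k.succ 0 (t * s) := T.w_jk hkj h0k.symm h0j.symm ht s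
    have hw'y : w' * y' * w'⁻¹ = y' := by
      have : y' ∈ Subgroup.centralizer {w'} := by
        refine (?_ : T.col {i | i ≠ k ∧ i ≠ j} ≤ _) hy'
        unfold col
        rw [Subgroup.closure_le]
        rintro _ ⟨i, hi, u, rfl⟩
        rw [SetLike.mem_coe, Subgroup.mem_centralizer_singleton_iff]
        exact (mul_inv_eq_iff_eq_mul.1 (T.w_fix hkj (Fin.succ_ne_zero i) (fun e => hi.1 (Fin.succ_inj.1 e))
          (fun e => hi.2 (Fin.succ_inj.1 e)) h0k h0j _ u)).symm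
      rw [← Subgroup.mem_centralizer_singleton_iff.1 this, mul_inv_cancel_right]
    have hg := key k (A := {i | i ≠ k ∧ i ≠ j}) (fun h => h.1 rfl) (t := 1) (s := t * s) one_ne_zero ha hy'
      (Subgroup.mul_mem _ (T.hh_stab ha hw'mem) hη)
    rw [← hw'x] at hg
    nth_rewrite 1 [← hw'y] at hg
    convert hg using 1
    rw [← mul_assoc (T.w 0 j.succ t), T.w_swap k j (Ne.symm hjk), ← hw'def]
    group

theorem good_all [Finite K] (g : G) : T.Good g := by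
  have h1 : T.Good 1 := Or.inl ⟨1, Subgroup.one_mem _, 1, one_ne_zero, 1, Subgroup.one_mem _, by
    rw [show T.hh (1 : K) = 1 from T.h_one (Fin.succ_ne_zero _).symm]; simp⟩
  set M : Subgroup G :=
    { carrier := {g | ∀ z, T.Good z → T.Good (g * z) ∧ T.Good (g⁻¹ * z)}
      one_mem' := fun z hz => by simpa using hz
      mul_mem' := fun {a b} ha hb z hz =>
        ⟨by rw [mul_assoc]; exact (ha _ (hb z hz).1).1, by rw [mul_inv_rev, mul_assoc]; exact (hb _ (ha z hz).2).2⟩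
      inv_mem' := fun {a} ha z hz => ⟨(ha z hz).2, by rw [inv_inv]; exact (ha z hz).1⟩ } with hM
  have hcol : ∀ (i : Fin (m + 1)) t, T.x i.succ 0 t ∈ M := fun i t z hz =>
    ⟨T.good_x i t hz, by rw [← T.x_neg (Fin.succ_ne_zero i)]; exact T.good_x i (-t) hz⟩
  have hw : ∀ (i : Fin (m + 1)), T.w 0 i.succ 1 ∈ M := fun i z hz =>
    ⟨T.good_w i one_ne_zero hz, by rw [← T.w_neg (Fin.succ_ne_zero i).symm]; exact T.good_w i (by simp) hz⟩
  have hrow : ∀ (i : Fin (m + 1)) t, T.x 0 i.succ t ∈ M := fun i t => by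
    rw [show t = -((1 : K) ^ 2 * -t) by ring, ← T.w_y (Fin.succ_ne_zero i).symm one_ne_zero]
    exact M.mul_mem (M.mul_mem (hw i) (hcol i _)) (M.inv_mem (hw i))
  have hall : ∀ g, g ∈ M := by
    have hle : ⊤ ≤ M := by
      rw [← T.gen, Subgroup.closure_le]
      rintro _ ⟨p, q, hpq, t, rfl⟩
      show T.x p q t ∈ M
      obtain rfl | ⟨p', rfl⟩ := Fin.eq_zero_or_eq_succ p
      · obtain rfl | ⟨q', rfl⟩ := Fin.eq_zero_or_eq_succ q
        · exact absurd rfl hpq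
        · exact hrow q' t
      · obtain rfl | ⟨q', rfl⟩ := Fin.eq_zero_or_eq_succ q
        · exact hcol p' t
        · have := T.chain p'.succ 0 q'.succ (Fin.succ_ne_zero p') (Fin.succ_ne_zero q').symm hpq t 1
          rw [mul_one, mul_assoc] at this
          rw [eq_mul_inv_of_mul_eq this.symm]
          exact M.mul_mem (M.mul_mem (hcol p' t) (hrow q' 1)) (M.inv_mem (M.mul_mem (hrow q' 1) (hcol p' t)))
    exact fun g => hle (Subgroup.mem_top g)
  simpa using (hall g 1 h1).1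

end StN

end Cfsg.Agent.SL2Presentation
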